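import Cfsg.Agent.Y12.Cz
import Cfsg.Agent.Co3T.Main

/-! The centraliser of `z` is `2.Sp₆(2)`, and `G` is the third Conway group. -/

set_option autoImplicit false
set_option maxRecDepth 100000
set_option synthInstance.maxHeartbeats 400000
set_option synthInstance.maxSize 4000

namespace Cfsg.Agent.Y12

open Subgroup Cfsg.Agent.Comp Cfsg.Agent.X32 Cfsg.Agent.X32.TG Cfsg.Agent.LES Cfsg.Agent.He5
open Cfsg.Agent.Co3T (B z b lB PH)

noncomputable def ac (l : ℕ) (k : B) : B :=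
  Bool.rec (motive := fun _ => B) (tup lB l * k * (tup lB l)⁻¹) (uh k) (Nat.beq l 6)

noncomputable def wkN (W : List ℕ) (k : ℕ) : ℕ :=
  List.rec (motive := fun _ => ℕ) k (fun l _ v => force v fun v =>
    Bool.rec (motive := fun _ => ℕ) 9216 (ac l (e v)).v
      (and' (Nat.blt v 9216) (or' (not' (Nat.beq l 6)) (tb mO v)))) W

abbrev Fx (W ts : List ℕ) : Prop := ∀ k ∈ z :: b :: es ts, wkN W k.v = k.v

theorem fR : (∀ W ∈ (List.range 7).map (fun k => [k, k]) ++ PH.rels,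
      (Low 6 W ∧ BN.ev (tup lB) W = 1) ∨
      [[0, 1, 3, 1, 0, 1, 3, 1, 5, 6, 5, 6, 5, 6, 5, 6]].elem W = true ∨
      ∃ ts ∈ [[94, 931, 936, 1022, 934, 160], [5381, 6714, 6711], [5125, 701, 661]], Fx W ts) ∧
    (∀ ts ∈ [[94, 931, 936, 1022, 934, 160], [5381, 6714, 6711], [5125, 701, 661]],
      ∀ c : B, (∀ k ∈ es ts, Commute c k) → c = 1 ∨ c = z) ∧
    Fx [5, 6, 5, 6, 5, 6, 5, 6] [516, 688, 741, 742] ∧
    (∀ c : B, (∀ k ∈ es [516, 688, 741, 742], Commute c k) →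
      c ^ 4 = 1 ∧ (c ^ 2 = 1 → c = 1 ∨ c = z)) ∧
    (Low 6 [0, 1, 3, 1, 0, 1, 3, 1] ∧ BN.ev (tup lB) [0, 1, 3, 1, 0, 1, 3, 1] = z) ∧
    z = Co3T.w1 * Co3T.w0 * Co3T.w1⁻¹ * Co3T.w0⁻¹ :=
  BD.of (by decide +kernel)

theorem simple62 : IsSimpleGroup Co3T.Sp62 := by
  have hc : center Co3T.Sp62 = ⊥ :=
    eq_bot_iff.2 fun g hg => (Class.Sp.mem_center_iff.1 hg).elim id fun h => h.trans
      (Class.Sp.ext_smul fun v => by rw [Class.Sp.negOne_smul, one_smul]; exact ZModModule.neg_eq_self v)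
  have : Nontrivial Co3T.Sp62 :=
    Finite.one_lt_card_iff_nontrivial.1 (by rw [Spor.ModelSp62.card]; norm_num)
  refine ⟨fun N _ => (Class.Sp.le_center_or_commutator_le N).imp (fun h => ?_) fun h => ?_⟩
  · rwa [hc, le_bot_iff] at h
  · rwa [Co3T.perf62, top_le_iff] at h

variable {G : Type*} [Group G] {χ : B →* G} {u : G}

noncomputable def hh (χ : B →* G) (u : G) (k : ℕ) : G := if k = 6 then u else χ (tup lB k)

theorem hh_low {W : List ℕ} (hW : Low 6 W) : BN.ev (hh χ u) W = χ (BN.ev (tup lB) W) := by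
  simp only [Low, allL_iff, blt_iff] at hW
  induction W with
  | nil => simp
  | cons k W ih =>
    rw [BN.ev_cons, BN.ev_cons, map_mul, ih fun j hj => hW j (by simp [hj]), hh,
      if_neg (hW k (by simp)).ne]

namespace IB
variable (H : IB χ u)
include H

theorem wk_ok (W : List ℕ) (k : B) : ∀ k' : B, wkN W k.v = k'.v →
    BN.ev (hh χ u) W * χ k * (BN.ev (hh χ u) W)⁻¹ = χ k' := by
  induction W with
  | nil => intro k' h; rw [TG.ext h]; simp
  | cons l W ih =>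
    intro k' h
    replace h := (force_eq (wkN W k.v) fun v => Bool.rec (motive := fun _ => ℕ) 9216 (ac l (e v)).v
      (and' (Nat.blt v 9216) (or' (not' (Nat.beq l 6)) (tb mO v)))).symm.trans h
    cases hc : and' (Nat.blt (wkN W k.v) 9216) (or' (not' (Nat.beq l 6)) (tb mO (wkN W k.v)))
    · rw [hc] at h; exact absurd k'.lt (h ▸ lt_irrefl _)
    rw [hc] at h
    simp only [and'_eq_true, or'_eq_true, not'_eq_true, blt_iff, beq_iff] at hc
    have e1 : (e (wkN W k.v) : B).v = wkN W k.v := Nat.mod_eq_of_lt hc.1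
    rw [← TG.ext h, BN.ev_cons, mul_inv_rev, mul_assoc, mul_assoc, ← mul_assoc (χ k),
      ← mul_assoc (BN.ev _ W), ← mul_assoc (BN.ev _ W), ih _ e1.symm, ← mul_assoc, hh, ac]
    by_cases hl : l = 6
    · subst hl
      exact H.ua _ (by rw [Mem, e1]; simpa using hc.2)
    · rw [if_neg hl, Bool.eq_false_iff.2 (mt (beq_iff _ _).1 hl)]; simp

theorem hz (k : ℕ) : hh χ u k ∈ centralizer {χ z} := by
  unfold hh; split_ifs
  exacts [mem_cent.2 H.uz, mem_cent.2 (cz _)]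

variable [Finite G]

theorem fx {W ts : List ℕ} (h : Fx W ts) :
    ∃ c, χ c = BN.ev (hh χ u) W ∧ ∀ k ∈ TG.es ts, Commute c k := by
  have c := fun k hk => X32.comm_of_conj (H.wk_ok W k k (h k hk))
  obtain ⟨k, e⟩ := H.cb (c z (by simp)) (c b (by simp))
  exact ⟨k, e, fun t ht => (comm_iff H.inj).1 (e ▸ c t (by simp [ht]))⟩

theorem rels : ∀ W ∈ (List.range 7).map (fun k => [k, k]) ++ PH.rels,
    BN.ev (hh χ u) W ∈ zpowers (χ z) := fun W hW => by
  obtain ⟨a1, a2, a3, a4, a5, -⟩ := fR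
  have key : ∀ {c}, c = 1 ∨ c = z → χ c ∈ zpowers (χ z) := by
    rintro _ (rfl | rfl) <;> simp
  rcases a1 W hW with h | h | ⟨ts, hts, h⟩
  · rw [hh_low h.1, h.2]; simp
  · obtain rfl := List.mem_singleton.1 (List.mem_of_elem_eq_true h)
    obtain ⟨c, e, hc⟩ := H.fx a3
    have e' : χ c = (hh χ u 5 * hh χ u 6) ^ 4 := by
      rw [e]; simp only [BN.ev_cons, BN.ev_nil, pow_succ, pow_zero, one_mul, mul_one, mul_assoc]
    obtain ⟨m, -, k, hk, ek⟩ := Setup.conj_inv Co3T.GD.pT H.syl (mul_mem (H.hz 5) (H.hz 6)) (j := 4)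
      (by rw [show 2 ^ 4 = 4 * 4 from rfl, pow_mul, ← e', ← map_pow, (a4 c hc).1, map_one])
    have := (a4 c hc).2 (H.inj (by
      rw [map_pow, e', ← pow_mul, map_one, ← conj_eq_one_iff (a := m), ← conj_pow, ek, ← map_pow,
        (fZ.1 k hk).2.1, map_one]))
    rw [show [0, 1, 3, 1, 0, 1, 3, 1, 5, 6, 5, 6, 5, 6, 5, 6] =
      [0, 1, 3, 1, 0, 1, 3, 1] ++ [5, 6, 5, 6, 5, 6, 5, 6] from rfl, BN.ev_append, hh_low a5.1, a5.2,
      ← e]
    exact mul_mem (mem_zpowers _) (key this)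
  · obtain ⟨c, e, hc⟩ := H.fx h
    exact e ▸ key (a2 ts hts c hc)

theorem dcov : ∃ σ : centralizer {χ z} →* Co3T.Sp62, TT.DCov σ ⟨χ z, mem_cent.2 rfl⟩ := by
  obtain ⟨ψ, σ, M, D⟩ := Co3T.exists_model
  let w : centralizer {χ z} := ⟨χ z, mem_cent.2 rfl⟩
  have hw : w ∈ center _ := mem_center_iff.2 fun x => Subtype.ext (mem_cent.1 x.2)
  have w2 : w * w = 1 := Subtype.ext z2
  have : (zpowers w).Normal := ⟨fun n hn g => by
    rwa [mem_center_iff.1 (zpowers_le.2 hw hn) g, mul_inv_cancel_right]⟩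
  let x : ℕ → centralizer {χ z} := fun k => ⟨_, H.hz k⟩
  let π := QuotientGroup.mk' (zpowers w)
  have ex : ∀ W, ((BN.ev x W : centralizer {χ z}) : G) = BN.ev (hh χ u) W := fun W => BN.map_ev (Subgroup.subtype _) x W
  have key : ∀ W, BN.ev (hh χ u) W ∈ zpowers (χ z) → BN.ev (fun k => π (x k)) W = 1 :=
    fun W ⟨n, h⟩ => by
      rw [← BN.map_ev]
      exact (QuotientGroup.eq_one_iff _).2 ⟨n, Subtype.ext (by simpa [ex] using h)⟩
  have out : ∀ k, 7 ≤ k → π (x k) = 1 := fun k hk => by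
    rw [show x k = 1 from Subtype.ext (by
      simp [x, hh, show k ≠ 6 by omega, tup, lB, show 6 ≤ k by omega]), map_one]
  obtain ⟨ρ, hρ⟩ := link_hom (X32.link_of_bound Co3T.bH M.sat.of_add (BN.gen_selfT _) (by
      rw [← M.card, BN.gen_selfT, card_top])) (x := fun k => π (x k))
    ⟨out, BN.inv_of_lt (P := PH) out fun k hk => by
      have := key _ (H.rels [k, k] (List.mem_append_left _ (List.mem_map_of_mem (List.mem_range.2 hk))))
      rw [BN.ev_cons, BN.ev_cons, BN.ev_nil, mul_one] at this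
      change k < 7 at hk
      interval_cases k <;> exact this, fun W hW => key _ (H.rels W (List.mem_append_right _ hW))⟩
  have hs : Function.Surjective ρ := by
    have : ∀ k, π (x k) ∈ ρ.range := fun k => ⟨_, (hρ [k]).trans (mul_one _)⟩
    intro q
    obtain ⟨⟨g, hg⟩, rfl⟩ := QuotientGroup.mk'_surjective _ q
    have hJ : χ.range ⊔ zpowers u ≤ (ρ.range.comap π).map (Subgroup.subtype _) :=
      sup_le (by
        rintro _ ⟨k, rfl⟩
        exact range_le_of_gen (M := (ρ.range.comap π).map (Subgroup.subtype _)) Co3T.topB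
          (fun j hj => ⟨x j, this j, if_neg (Nat.ne_of_lt hj)⟩) k)
        (zpowers_le.2 ⟨x 6, this 6, rfl⟩)
    obtain ⟨g', h, rfl⟩ := hJ (H.cz_eq ▸ hg)
    exact h
  have hk : σ.ker ≤ ρ.ker := fun g hg => by
    rcases (D.ker g).1 hg with rfl | rfl
    · exact map_one ρ
    · rw [MonoidHom.mem_ker, ← (M.ev_low fR.2.2.2.2.1.1).trans (congrArg ψ fR.2.2.2.2.1.2), hρ]
      exact key _ (by rw [hh_low fR.2.2.2.2.1.1, fR.2.2.2.2.1.2]; exact mem_zpowers _)
  let ρ' := σ.liftOfSurjective D.surj ⟨ρ, hk⟩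
  have hs' : Function.Surjective ρ' := fun q => by
    obtain ⟨g, rfl⟩ := hs q
    exact ⟨σ g, σ.liftOfRightInverse_comp_apply _ _ _ g⟩
  have := simple62
  have hi : Function.Injective ρ' := (MonoidHom.ker_eq_bot_iff _).1
    ((inferInstance : ρ'.ker.Normal).eq_bot_or_eq_top.resolve_right fun e => by
      obtain ⟨g, h⟩ := hs' (π ⟨χ b, mem_cent.2 (cz b)⟩)
      rw [show ρ' g = 1 from e.ge (mem_top g), eq_comm, QuotientGroup.mk'_apply,
        QuotientGroup.eq_one_iff, mem_zpowers_inv w2] at h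
      rcases h with h | h
      · exact fG.2.2.2.2.1.2.2.2.1 (H.inj (by simpa using congrArg Subtype.val h : χ b = χ 1))
      · exact fG.2.2.2.2.1.2.2.2.2.2.2.2.2 (H.inj (congrArg Subtype.val h)))
  let f := (MulEquiv.ofBijective ρ' ⟨hi, hs'⟩).symm
  have hσ : Function.Surjective (f.toMonoidHom.comp π) :=
    f.surjective.comp (QuotientGroup.mk'_surjective _)
  have hker : ∀ g, f.toMonoidHom.comp π g = 1 ↔ g = 1 ∨ g = w := fun g => by
    simp [π, mem_zpowers_inv w2]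
  refine ⟨_, Co3T.perfect_of hσ fun g hg => ?_, hσ, hw, fun e => H.z1 (congrArg Subtype.val e), w2, hker⟩
  rcases (hker g).1 hg with rfl | rfl
  · exact one_mem _
  · have : w = ⟨χ Co3T.w1, mem_cent.2 (cz _)⟩ * ⟨χ Co3T.w0, mem_cent.2 (cz _)⟩ *
        ⟨χ Co3T.w1, mem_cent.2 (cz _)⟩⁻¹ * ⟨χ Co3T.w0, mem_cent.2 (cz _)⟩⁻¹ :=
      Subtype.ext (by simpa using congrArg χ fR.2.2.2.2.2)
    rw [this]
    exact commutator_mem_commutator (mem_top _) (mem_top _)

theorem iso : Spor.IsoCo3 G := by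
  obtain ⟨σ', D'⟩ := H.dcov
  obtain ⟨ψ, σ, M, D⟩ := Co3T.exists_model
  have : Finite (BN.gen Co3T.m7) := Co3T.Mod.gsub _ ▸ finite_gen Co3T.Mod.ctx.ok _
  obtain ⟨φ, hφ⟩ := TT.DCov.exists_equiv Spor.ModelSp62.equiv (e := 1)
    (Spor.MultSp62.geq ▸ Spor.MultSp62.bounds (2, 1) (by simp)) (n := 1) le_rfl
    (σ := fun _ => σ) (fun _ => D) (fun i j c => absurd (Subsingleton.elim i j) c) D'
  have M' := M.map (BN.gen_selfT _) ((centralizer {χ z}).subtype.comp φ.toMonoidHom)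
    ((subtype_injective _).comp φ.injective) (by
      rw [MonoidHom.range_comp, MonoidHom.range_eq_top.2 φ.surjective, ← MonoidHom.range_eq_map,
        range_subtype]
      simp [hφ])
  have ez : (((centralizer {χ z}).subtype.comp φ.toMonoidHom).comp ψ) z = χ z := by simp [hφ]
  obtain ⟨-, b2, -, b1, -, -, -, -, bz⟩ := fG.2.2.2.2.1
  obtain ⟨g, hg⟩ := isConj_iff.1 H.zb
  obtain ⟨m, hm, h | h | h⟩ := M'.inv_cases le_rfl (y := χ b) (by rw [ez]; exact mem_cent.2 (cz b)) (Setup.sq b2)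
    (by simpa using H.inj.ne b1)
  · rw [← conj_of_comm (mem_cent.1 hm), ez] at h
    exact absurd (H.inj (cj_inj h)) bz
  · exact M'.iso (g := m * g) (by rw [← h, ez, ← hg]; group)
  · obtain ⟨n, -, h2⟩ := M'.back (g := m * g) (u := Co3T.d) (w := Co3T.w0)
      (by rw [← h, ez, ← hg]; group) (BD.of (by decide +kernel))
    exact M'.iso (g := n * (m * g)⁻¹) (by rw [← h2]; group)

end IB

theorem main [Finite G] {t : G} (ht : orderOf t = 2) (hC : Nonempty
    (centralizer ({t} : Set G) ≃* Multiplicative (ZMod 2) × Spor.M12)) (hO : t ∈ pResidual 2 G) :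
    Spor.IsoCo3 G := by
  obtain ⟨φ, y, H⟩ := exists_base ht hC hO
  obtain ⟨χ, u, I⟩ := H.ib
  exact I.iso

end Cfsg.Agent.Y12
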