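import Cfsg.Agent.Y12.AF

/-! The wreathed case contradicts `e ∈ O²(G)`. -/

set_option autoImplicit false
set_option maxRecDepth 100000
set_option synthInstance.maxHeartbeats 400000
set_option synthInstance.maxSize 4000

namespace Cfsg.Agent.Y12

open Subgroup Cfsg.Agent.Comp Cfsg.Agent.X32 Cfsg.Agent.X32.TG Cfsg.Agent.LES Cfsg.Agent.He5
open scoped Cfsg.Agent.PLocal.Amb

theorem fK0 : ((∀ k : K0, (Z 256 k → Z 256 (yq k)) ∧ (Z 256 k ∨ Z 256 (k * (e 256)⁻¹)) ∧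
      Commute k (e 1) ∧ (Z 508 k → Z 256 k) ∧
      ((∀ t ∈ e 256 :: gQ, Commute k t) → k = 1 ∨ k = e 1) ∧
      k ^ 2 ^ 3 = 1) ∧
    (∀ k ∈ gQ, Z 256 k) ∧ Z 256 (1 : K0) ∧ (∀ k ∈ (es [1, 2, 64, 128] : List K0), Mem mV2 k)) ∧
    ((e 1 : K0) * e 1 = 1 ∧ (e 1 : K0) ≠ 1) ∧
    ((e 2 : K0) * e 2 = 1 ∧ Commute (e 2 : K0) (e 1) ∧ (e 2 : K0) ∉ [1, e 1]) ∧
    ((e 64 : K0) * e 64 = 1 ∧ Commute (e 64 : K0) (e 1) ∧ Commute (e 64 : K0) (e 2) ∧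
      (e 64 : K0) ∉ [1, e 1, e 2, e 2 * e 1] ∧ (e 64 : K0) ∉ [1, e 1]) ∧
    ((e 128 : K0) * e 128 = 1 ∧ Commute (e 128 : K0) (e 1) ∧ Commute (e 128 : K0) (e 2) ∧
      Commute (e 128 : K0) (e 64) ∧ (e 128 : K0) ∉
        [1, e 1, e 2, e 2 * e 1, e 64, e 64 * e 1, e 64 * e 2, e 64 * e 2 * e 1]) ∧
    (e 3 : K0) = e 2 * e 1 ∧ (e 2 : K0) = e 3 * e 1 ∧ (e 64 : K0) * (e 32 * e 1) * (e 64)⁻¹ = e 32 ∧
    (e 32 : K0) * e 32 = 1 ∧ (lq tx0 (e 128 * e 128 : K0) : K0) = 1 ∧ Z 136 (e 128 * e 128 : K0) ∧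
    ¬ Commute (e 32 : K0) (e 64) :=
  BD.of (by decide +kernel)

abbrev FB (tw : ℕ) : Prop := ∀ i ∈ List.range 16, ∀ q : K0, Z 256 q →
  Fq tw i q (e 64) = e 64 ∨ Fq tw i q (e 64) = e 1 * e 64

theorem fb0 : FB tw0 := BD.of (by decide +kernel)

theorem fb1 : FB tw1 := BD.of (by decide +kernel)

variable {G : Type*} [Group G] [Finite G] {φ : D →* G} {y g : G} {ψ : K0 →* G} {ta tw : ℕ}

def Ac (ψ : K0 →* G) (tw i : ℕ) (q : K0) (u : G) : Prop :=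
  ∀ k, Z 256 k → u * ψ k * u⁻¹ = ψ (Fq tw i q k)

structure SA (φ : D →* G) (y : G) (ψ : K0 →* G) (g : G) (ta tw : ℕ) : Prop
    extends St φ y ψ ty0 tx0 where
  ga : ∀ k, g * ψ k * g⁻¹ = ψ (lq ta k)
  g2 : g * g = 1
  fa : FA ta tw
  fb : FB tw

theorem zq {a b c : K0} (ha : Z 256 a) (hb : Z 256 b) (hc : Z 256 c) : Z 256 (a * b * c) :=
  Q0.mul_mem (Q0.mul_mem ha hb) hc

/-- the elements fixing `z` and normalising `⟨z, b⟩` -/
def LL (ψ : K0 →* G) : Subgroup G := subOf (fun n => Commute n (ψ (e 1)) ∧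
    (n * ψ (e 2) * n⁻¹ = ψ (e 2) ∨ n * ψ (e 2) * n⁻¹ = ψ (e 3))) (by simp) fun a b ha hb => by
  obtain ⟨-, -, -, -, -, c1, c2, -⟩ := fK0
  refine ⟨ha.1.mul_left hb.1, ?_⟩
  rw [show a * b * ψ (e 2) * (a * b)⁻¹ = a * (b * ψ (e 2) * b⁻¹) * a⁻¹ by group]
  rcases hb.2 with h | h <;> rw [h]
  · exact ha.2
  · have : a * ψ (e 3) * a⁻¹ = a * ψ (e 2) * a⁻¹ * ψ (e 1) := by
      rw [c1, map_mul]; nth_rewrite 2 [← conj_of_comm ha.1]; group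
    rw [this]
    exact ha.2.symm.imp (fun h => by rw [h, ← map_mul, ← c2]) fun h => by rw [h, ← map_mul, ← c1]

namespace SA
variable (H : SA φ y ψ g ta tw)
include H

omit [Finite G] in
theorem zF {i : ℕ} (hi : i ∈ List.range 16) {q k : K0} (hq : Z 256 q) (hk : Z 256 k) :
    Z 256 (Fq tw i q k) := zq hq ((H.fa.2.1 i hi).1 k hk) (Q0.inv_mem hq)

omit [Finite G] in
theorem real : ∀ i ∈ List.range 16, ∃ h, ∀ k, Z 256 k → h * ψ k * h⁻¹ = ψ (Wi tw i k) := by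
  have zy := fun k => (fK0.1.1 k).1
  have yi : y⁻¹ = y * y := inv_eq_of_mul_eq_one_left H.y3
  have yy : ∀ k, Z 256 k → y⁻¹ * ψ k * y = ψ (yq (yq k)) := fun k hk => by
    rw [← H.yq _ (zy k hk), ← H.yq k hk, ← mul_assoc, ← mul_assoc, ← yi, mul_assoc _ _ y⁻¹,
      ← mul_inv_rev, ← yi, inv_inv]
  have base : ∀ i ∈ [0, 1, 2, 4, 8], ∃ h, ∀ k, Z 256 k → h * ψ k * h⁻¹ = ψ (Wi tw i k) := by
    have a := H.fa.1
    simp only [List.forall_mem_cons, List.not_mem_nil, false_imp_iff, implies_true, and_true]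
    refine ⟨⟨1, fun k hk => by simp [(a k hk).1]⟩, ⟨g, fun k hk => by rw [(a k hk).2.1, H.ga]⟩,
      ⟨y * g * y⁻¹, fun k hk => ?_⟩, ⟨y⁻¹ * g * y, fun k hk => ?_⟩, ψ (e 256), fun k hk => by
        rw [(a k hk).2.2.2.2.1, map_mul, map_mul, map_inv]⟩
    · rw [(a k hk).2.2.1, ← H.yq _ (a _ (zy _ (zy _ hk))).2.2.2.2.2, ← H.ga, ← yy k hk]; group
    · rw [(a k hk).2.2.2.1, ← yy _ (a _ (zy _ hk)).2.2.2.2.2, ← H.ga, ← H.yq k hk]; group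
  intro i
  induction i using Nat.strong_induction_on with
  | _ i ih =>
    intro hi
    rcases (H.fa.2.1 i hi).2.1 with h | ⟨j, hj, l, hl, h⟩
    · exact base i h
    · have hl' := List.mem_range.2 ((List.mem_range.1 hl).trans (List.mem_range.1 hi))
      obtain ⟨u, hu⟩ := base j hj
      obtain ⟨v, hv⟩ := ih l (List.mem_range.1 hl) hl'
      exact ⟨u * v, fun k hk => by
        rw [h k hk, ← hu _ ((H.fa.2.1 l hl').1 k hk), ← hv k hk]; group⟩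

noncomputable def P1 : Subgroup G :=
  subOf (fun u => ∃ i ∈ List.range 16, ∃ q, Z 256 q ∧ Ac ψ tw i q u)
    ⟨0, by simp, 1, fK0.1.2.2.1, fun k hk => by simp [(H.fa.1 k hk).1]⟩ (by
      rintro a b ⟨i, hi, q, hq, ha⟩ ⟨j, hj, q', hq', hb⟩
      obtain ⟨l, hl, r, -, hr, h⟩ := (H.fa.2.1 i hi).2.2 j hj
      refine ⟨l, hl, q * Wi tw i q' * r, zq hq ((H.fa.2.1 i hi).1 _ hq') hr, fun k hk => ?_⟩
      calc _ = a * (b * ψ k * b⁻¹) * a⁻¹ := by group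
        _ = a * ψ q' * a⁻¹ * (a * ψ (Wi tw j k) * a⁻¹) * (a * ψ q' * a⁻¹)⁻¹ := by
          rw [hb k hk, map_mul, map_mul, map_inv]; group
        _ = _ := by
          rw [ha _ hq', ha _ ((H.fa.2.1 j hj).1 k hk), Fq, Fq, h k hk, ← map_inv, ← map_mul, ← map_mul]
          congr 1; simp only [Fq]; group)

theorem real' {i : ℕ} (hi : i ∈ List.range 16) {q : K0} (hq : Z 256 q) :
    ∃ u ∈ H.P1, Ac ψ tw i q u := by
  obtain ⟨h, e⟩ := H.real i hi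
  have : Ac ψ tw i q (ψ q * h) := fun k hk => by rw [map_mul, map_mul, map_inv, ← e k hk]; group
  exact ⟨_, ⟨i, hi, q, hq, this⟩, this⟩

theorem memψ (k : K0) : ψ k ∈ H.P1 := by
  rcases (fK0.1.1 k).2.1 with h | h
  · exact ⟨0, by simp, k, h, fun u hu => by simp [(H.fa.1 u hu).1]⟩
  · exact ⟨8, by simp, _, h, fun u hu => by simp [(H.fa.1 u hu).2.2.2.2.1, mul_assoc]⟩

theorem memg : g ∈ H.P1 :=
  ⟨1, by simp, 1, fK0.1.2.2.1, fun u hu => by simp [(H.fa.1 u hu).2.1, H.ga]⟩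

omit H [Finite G] in
theorem zg {n : ℕ} (h : n ∈ [1, 2, 4, 8, 16, 32, 64, 128] := by decide) : Z 256 (e n : K0) :=
  fK0.1.2.1 _ (List.mem_map_of_mem h)

theorem le_L : H.P1 ≤ LL ψ := by
  rintro u ⟨i, hi, q, hq, h⟩
  obtain ⟨a, b, -⟩ := H.fa.2.2.2 i hi q hq
  exact ⟨X32.comm_of_conj ((h _ zg).trans (by rw [a])),
    b.imp (fun e => by rw [h _ zg, e]) fun e => by rw [h _ zg, e]⟩

theorem inR {n : G} (hn : n ∈ LL ψ) (h : Commute n (ψ (e 32))) : n ∈ H.P1 := by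
  obtain ⟨k, -, rfl⟩ := H.inS f00 f50 h hn.1 hn.2
  exact H.memψ k

theorem P1_p : IsPGroup 2 H.P1 := by
  rintro ⟨u, i, hi, q, hq, h⟩
  have sq : ∀ {u : G} {f : K0 → K0}, (∀ k, Z 256 k → u * ψ k * u⁻¹ = ψ (f k) ∧ Z 256 (f k)) →
      ∀ k, Z 256 k → u * u * ψ k * (u * u)⁻¹ = ψ (f (f k)) ∧ Z 256 (f (f k)) := fun h k hk =>
    ⟨by rw [← (h _ (h k hk).2).1, ← (h k hk).1]; group, (h _ (h k hk).2).2⟩
  have h8 := sq (sq (sq fun k hk => ⟨h k hk, H.zF hi hq hk⟩))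
  have c := (H.fa.2.2.2 i hi q hq).2.2.1
  obtain ⟨k, -, e⟩ := H.inS f00 f50
    (X32.comm_of_conj ((h8 _ zg).1.trans (congrArg ψ (c _ (by simp [es])))))
    (X32.comm_of_conj ((h8 _ zg).1.trans (congrArg ψ (c _ (by simp [es])))))
    (.inl ((h8 _ zg).1.trans (congrArg ψ (c _ (by simp [es])))))
  refine ⟨6, Subtype.ext ?_⟩
  have := congrArg ψ (fK0.1.1 k).2.2.2.2.2
  rw [map_pow, e, map_one] at this
  rw [coe_pow, OneMemClass.coe_one, ← this]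
  simp only [← pow_two, ← pow_mul]; rfl

theorem nV {v : K0} (hv : Mem mV2 v) : ¬ IsConj (φ de) (ψ v) := fun h => by
  rcases fV2 v hv with rfl | ⟨a, -, b, -, c, -, d, -, r⟩
  · exact H.e1 (by simpa using h)
  · exact H.no5 h ((R5.map_iff ψ H.inj1).2 r)

theorem nV2 {u : G} (hu : IsConj (φ de) u) (h1 : Commute u (ψ (e 1))) (h2 : Commute u (ψ (e 2)))
    (h3 : Commute u (ψ (e 64))) (h4 : Commute u (ψ (e 128))) : False := by
  obtain ⟨⟨-, -, -, m⟩, a, b, c, d, -⟩ := fK0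
  have m' : ∀ n ∈ [1, 2, 64, 128], ψ (e n) ∈ V2.map ψ := fun n hn =>
    ⟨_, m _ (List.mem_map_of_mem hn), rfl⟩
  refine H.no5 hu (R5.of_sub (H := V2.map ψ) (by rintro ⟨v, hv, rfl⟩; exact H.nV hv hu)
    (m' 1 (by simp)) (m' 2 (by simp)) (m' 64 (by simp)) (m' 128 (by simp)) ?_ ?_ ?_ ?_) <;>
  simp only [h1.symm, h2.symm, h3.symm, h4.symm, true_and, comm_iff H.inj1, ← map_mul, ne_eq,
    List.mem_cons, List.not_mem_nil, H.inj1.eq_iff, map_eq_one_iff ψ H.inj1] at *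
  exacts [a, b, ⟨c.1, c.2.1, c.2.2.1, c.2.2.2.1⟩, d]

omit [Finite G] in
theorem sq1 {u : G} {i : ℕ} {q : K0} (hi : i ∈ List.range 16) (hq : Z 256 q) (h : Ac ψ tw i q u)
    (u2 : u * u = 1) {k : K0} (hk : Z 256 k) : Fq2 tw i q k = k := H.inj1 (by
  rw [← h _ (H.zF hi hq hk), ← h k hk, ← mul_assoc, ← mul_assoc, u2, mul_assoc, ← mul_inv_rev, u2]
  simp)

theorem lemN : ¬ 2 ∣ H.P1.relIndex (LL ψ) := fun hi => by
  obtain ⟨n, hn, h1, h2, -⟩ := exists_norm (L := H.P1) H.P1_p H.le_L hi (by simp)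
  have ee := H.ee f00
  obtain ⟨i, hi, q, hq, h⟩ := h2 _ (H.memψ (e 32))
  have u2 : n * ψ (e 32) * n⁻¹ * (n * ψ (e 32) * n⁻¹) = 1 := conj_sq (ee ▸ Base.e2)
  have cu : IsConj (φ de) (n * ψ (e 32) * n⁻¹) := isConj_iff.2 ⟨n, by rw [ee]⟩
  have c1 : Commute (n * ψ (e 32) * n⁻¹) (ψ (e 1)) := (H.le_L ⟨i, hi, q, hq, h⟩).1
  have c2 : Commute (n * ψ (e 32) * n⁻¹) (ψ (e 2)) := by
    have := cj_comm n ((BD.of (by decide +kernel) : Commute (e 32 : K0) (e 2)).map ψ)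
    rcases hn.2 with e | e <;> rw [e] at this
    · exact this
    · rw [fK0.2.2.2.2.2.2.1, map_mul]; exact this.mul_right c1
  have hc := fun a b => H.nV2 cu c1 c2 a b
  rcases ((H.fa.2.2.2 i hi q hq).2.2.2 fun k hk => H.sq1 hi hq h u2 (fK0.1.2.1 k hk)).1
    (H.inj1 ((h _ zg).symm.trans (conj_of_comm c2))) with ⟨a, b⟩ | rfl
  · exact hc (X32.comm_of_conj ((h _ zg).trans (by rw [a])))
      (X32.comm_of_conj ((h _ zg).trans (by rw [b])))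
  obtain ⟨v, hv, e⟩ := H.inV f00 f50 (g := (ψ q)⁻¹ * (n * ψ (e 32) * n⁻¹)) fun u hu =>
    X32.comm_of_conj (by
      have := h u (fK0.1.2.1 u hu)
      rw [Fq, (H.fa.1 u (fK0.1.2.1 u hu)).1, map_mul, map_mul, map_inv] at this
      rw [mul_inv_rev, mul_assoc, mul_assoc, ← mul_assoc (ψ u), ← mul_assoc _ (ψ u * _), ← mul_assoc _ (ψ u),
        this]; group)
  have e' : n * ψ (TG.e 32) * n⁻¹ = ψ (q * v) := by rw [map_mul, e]; group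
  rw [e'] at u2 hc
  rcases (H.fa.2.2.1 (q * v)).1 (Q0.mul_mem hq ((fK0.1.1 v).2.2.2.1 hv))
    (H.inj1 (by rw [map_mul, u2, map_one])) with ⟨a, b⟩ | ⟨j, hj, r, -, hr, a⟩
  · exact hc (a.map ψ) (b.map ψ)
  obtain ⟨w, hw, b⟩ := H.real' hj hr
  refine h1 ((H.P1.mul_mem_cancel_left hw).1 (H.inR (mul_mem (H.le_L hw) hn) (X32.comm_of_conj ?_)))
  nth_rewrite 2 [← a]
  rw [← b _ (Q0.mul_mem hq ((fK0.1.1 v).2.2.2.1 hv)), ← e']; group

theorem fin {u : G} (hu : u ∈ H.P1) (cu : IsConj (φ de) u) (c3 : Commute u (ψ (e 64))) : False := by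
  have c1 := (H.le_L hu).1
  obtain ⟨i, hi, q, hq, h⟩ := hu
  have u2 : u * u = 1 := by obtain ⟨n, rfl⟩ := isConj_iff.1 cu; exact conj_sq Base.e2
  rcases ((H.fa.2.2.2 i hi q hq).2.2.2 fun k hk => H.sq1 hi hq h u2 (fK0.1.2.1 k hk)).2
    (H.inj1 ((h _ zg).symm.trans (conj_of_comm c3))) with
    ⟨a, b⟩ | ⟨a1, v, -, a2, c, -, ⟨a3, a4, a5⟩, a6, a7⟩
  · exact H.nV2 cu c1 (X32.comm_of_conj ((h _ zg).trans (by rw [a]))) c3
      (X32.comm_of_conj ((h _ zg).trans (by rw [b])))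
  obtain ⟨v0, hv, ev⟩ := H.inV f00 f50 (g := (ψ v * g * u)⁻¹ * (u * g)) fun k hk =>
    X32.comm_of_conj (by
      have z1 := fK0.1.2.1 k hk
      calc _ = (ψ v * g * u)⁻¹ * (u * (g * ψ k * g⁻¹) * u⁻¹) * (ψ v * g * u) := by group
        _ = _ := by
          rw [H.ga, h _ (H.fa.1 k z1).2.2.2.2.2, a2 k hk, map_mul, map_mul, map_inv, ← H.ga, ← h k z1]
          group)
  obtain ⟨⟨b1, b2, b3⟩, b4⟩ := a7 v0 hv
  have e1 : u * g * u⁻¹ = ψ (v * Fq tw i q v0) * g := by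
    rw [map_mul, ← b3, ← H.ga, ← h _ b1, ev]; group
  obtain ⟨w, -, ⟨d1, d2⟩, d3, d4, d5⟩ := b4 (H.inj1 (by
    rw [map_mul, ← h _ b2, map_one, ← mul_left_inj g, mul_assoc _ _ g, ← e1, one_mul]
    calc _ = u * (ψ (v * Fq tw i q v0) * g) * u⁻¹ := by group
      _ = u * u * g * (u * u)⁻¹ := by rw [← e1]; group
      _ = _ := by rw [u2]; group))
  have hd : ∀ a, ψ w * g * ψ a * (ψ w * g)⁻¹ = ψ (w * lq ta a * w⁻¹) := fun a => by
    rw [map_mul, map_mul, map_inv, ← H.ga]; group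
  have cd : ∀ a ∈ [e 1, e 2, e 64, c], Commute (ψ w * g) (ψ a) := fun a ha =>
    X32.comm_of_conj (by rw [hd, d4 a ha])
  obtain ⟨-, a, b, c', -⟩ := fK0
  refine H.no5 cu (R5.of_sub (H := centralizer {ψ (e 2)}) (a := ψ (e 1)) (b := ψ (e 64)) (c := ψ c)
    (d := ψ w * g) (fun e => a1 (H.inj1 ((h _ zg).symm.trans (conj_of_comm (mem_cent.1 e)))))
    (mem_cent.2 (b.2.1.symm.map ψ)) (mem_cent.2 (c'.2.2.1.map ψ)) (mem_cent.2 (a6.2.2.2.1.map ψ))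
    (mem_cent.2 (cd _ (by simp))) ?_ ?_ ?_ ⟨?_, ?_, cd _ (by simp), cd _ (by simp), cd _ (by simp),
      fun hm => ?_⟩)
  iterate 3
    have c4 : Commute u (ψ c) := X32.comm_of_conj ((h _ a3).trans (by rw [a4]))
    simp only [c1.symm, c3.symm, c4.symm, true_and, comm_iff H.inj1, ← map_mul, ne_eq,
      List.mem_cons, List.not_mem_nil, H.inj1.eq_iff, map_eq_one_iff ψ H.inj1] at a b c' a6 ⊢
    tauto
  · rw [← mul_one (ψ w * g * (ψ w * g)), ← mul_inv_cancel g]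
    calc _ = ψ w * (g * ψ w * g⁻¹) * (g * g) * g * g⁻¹ := by group
      _ = _ := by rw [H.g2, H.ga, ← map_mul, d3, map_one, one_mul, one_mul]
  · refine (X32.comm_of_conj ?_).symm
    calc _ = u * ψ w * u⁻¹ * (u * g * u⁻¹) := by group
      _ = _ := by rw [h _ d1, e1, ← mul_assoc, ← map_mul, d2]
  · obtain ⟨a, ha, e⟩ : ∃ a ∈ [1, e 1, e 64, e 64 * e 1, c, c * e 1, c * e 64, c * e 64 * e 1],
        ψ a = ψ w * g := by simpa [eq_comm] using hm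
    exact d5 a ha (H.inj1 (by rw [← hd, ← e, map_mul, map_mul, map_inv]))

theorem false : False := by
  have := Fact.mk Nat.prime_two
  obtain ⟨P, hP⟩ := H.P1_p.exists_le_sylow
  obtain ⟨⟨a1, -⟩, ⟨a2, a3⟩, -, a4, -, a5, a6, a7, a8, -, -, a9⟩ := fK0
  have ee := H.ee f00
  have zz := H.zz f00
  have bb := H.bb f00
  have mψ := fun k => hP (H.memψ k)
  have z1 : ψ (e 1) ≠ 1 := zz ▸ H.z1
  have hz : ∀ x ∈ (P : Subgroup G), Commute x (ψ (e 1)) := by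
    obtain ⟨k, hk, k1, h⟩ := exists_Z2 P.isPGroup' (N := ⊥) (by simp) fun h => z1 (h (mψ _))
    have c : ∀ x ∈ (P : Subgroup G), Commute x k := fun x hx =>
      X32.comm_of_conj (mul_inv_eq_one.1 (h x hx))
    obtain ⟨k, -, rfl⟩ := H.inS f00 f50 (c _ (mψ _)).symm (c _ (mψ _)).symm
      (.inl (conj_of_comm (c _ (mψ _)).symm))
    rcases (a1 k).2.2.2.2.1 fun t _ => (comm_iff H.inj1).1 (c _ (mψ t)).symm with rfl | rfl
    · exact absurd (map_one ψ) k1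
    · exact c
  have z2 : ψ (e 1) * ψ (e 1) = 1 := Setup.sq a2
  have tr := fun {Q : Subgroup G} (h1 : IsPGroup 2 Q) (h2 : ¬ 2 ∣ Q.index) (h3 : ∀ k, ψ k ∈ Q)
      (h4 : ∀ x ∈ Q, Commute x (ψ (e 1))) {k : K0} (h5 : k * k = 1 ∧ Mem mV2 k ∧ ¬ Commute (e 32) k)
      (h6 : ∀ x ∈ Q, x * ψ k * x⁻¹ = ψ k ∨ x * ψ k * x⁻¹ = ψ (e 1) * ψ k) =>
    H.tr2 h1 h2 (zz ▸ h3 _) (zz ▸ h4) (ee ▸ h3 _) (h3 k) (Setup.sq h5.1) (zz ▸ h6)
      (ee ▸ fun c => h5.2.2 ((comm_iff H.inj1).1 c)) (H.nV h5.2.1)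
  obtain ⟨m, hm⟩ : ∃ m, ∀ x ∈ (P : Subgroup G), m⁻¹ * x * m ∈ LL ψ := by
    obtain ⟨k, hk, k1, h⟩ := exists_Z2 P.isPGroup' (N := zpowers (ψ (e 1))) (fun x hx n hn => by
      rcases (mem_zpowers_inv z2).1 hn with rfl | rfl
      · simp
      · rw [conj_of_comm (hz x hx)]; exact hn) fun h => a9 ((comm_iff H.inj1).1 (by
        rcases (mem_zpowers_inv z2).1 (h (mψ (e 64))) with e | e <;> rw [e]
        exacts [Commute.one_right _, hz _ (mψ _)]))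
    replace h := fun x hx => (mem_zpowers_inv z2).1 (h x hx)
    have h' : ∀ x ∈ (P : Subgroup G), k * x * k⁻¹ = x ∨ k * x * k⁻¹ = x * ψ (e 1) := fun x hx =>
      (h x⁻¹ (inv_mem hx)).imp (fun e => by nth_rewrite 2 [← mul_one x]; rw [← e]; group)
        fun e => by rw [← e]; group
    have hL : k ∈ LL ψ := ⟨hz k hk, by rw [a5, map_mul]; exact h' _ (mψ _)⟩
    obtain ⟨k, rfl⟩ : ∃ u, ψ u = k := by
      rcases h' _ (mψ (e 32)) with e | e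
      · exact (H.inS f00 f50 (X32.comm_of_conj e) hL.1 hL.2).imp fun _ h => h.2
      · have := mul_mem (H.le_L (H.memψ (TG.e 64))) hL
        obtain ⟨u, -, eu⟩ := H.inS f00 f50 (X32.comm_of_conj (by
          nth_rewrite 2 [← a7]; rw [map_mul, map_mul, map_mul, map_inv, ← e]; group)) this.1 this.2
        exact ⟨(TG.e 64)⁻¹ * u, by rw [map_mul, map_inv, eu]; group⟩
    have h2 : ∀ x ∈ (P : Subgroup G), x * ψ k * x⁻¹ = ψ k ∨ x * ψ k * x⁻¹ = ψ (e 1) * ψ k :=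
      fun x hx => (h x hx).imp mul_inv_eq_one.1 mul_inv_eq_iff_eq_mul.1
    have key : ∀ m, Commute m (ψ (e 1)) → (m⁻¹ * ψ k * m = ψ (e 2) ∨ m⁻¹ * ψ k * m = ψ (e 3)) →
        ∀ x ∈ (P : Subgroup G), m⁻¹ * x * m ∈ LL ψ := fun m c hm x hx => by
      have e1 : ∀ a, m⁻¹ * x * m * (m⁻¹ * a * m) * (m⁻¹ * x * m)⁻¹ = m⁻¹ * (x * a * x⁻¹) * m :=
        fun a => by group
      have e2 : m⁻¹ * (ψ (e 1) * ψ k) * m = m⁻¹ * ψ k * m * ψ (e 1) := by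
        rw [← (hz _ hk).eq, ← mul_assoc, mul_assoc _ _ m, ← c.eq, ← mul_assoc]
      have c' := (c.inv_left.mul_left (hz x hx)).mul_left c
      refine ⟨c', ?_⟩
      rcases hm with e | e
      · rw [a5, map_mul, ← e, e1, ← e2]
        exact (h2 x hx).imp (fun h => by rw [h]) fun h => by rw [h]
      · rw [a6, map_mul, ← e, ← mul_assoc, mul_assoc _ _ (m⁻¹ * x * m)⁻¹, ← c'.inv_left.eq,
          ← mul_assoc, e1]
        exact (h2 x hx).imp (fun h => by rw [h]) fun h => by rw [h, e2, mul_assoc, z2, mul_one]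
    rcases (H.fa.2.2.1 k).2 (fun t _ => (h _ (mψ t)).imp (fun e => H.inj1 (by simpa using e))
      fun e => H.inj1 (by simpa using e)) ((h _ (hP H.memg)).imp
        (fun e => H.inj1 (by simpa [H.ga] using e)) fun e => H.inj1 (by simpa [H.ga] using e)) with
      rfl | rfl | h3 | h3
    · exact absurd (by simp) k1
    · exact absurd (mem_zpowers _) k1
    · exact ⟨1, key 1 (Commute.one_left _) (by simpa [H.inj1.eq_iff] using h3)⟩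
    · obtain ⟨n, -, -, b1, b2⟩ := tr P.isPGroup' P.not_dvd_index mψ hz h3 h2
      exact ⟨n, key n (zz ▸ b1) (by rwa [a5, map_mul, bb, zz, ← map_mul])⟩
  obtain ⟨c, -, hc⟩ := conj_into H.P1_p H.lemN (PLocal.Amb.isPGroup_cj m⁻¹ P.isPGroup')
    (PLocal.Amb.cj_le_iff_forall.2 (by simpa using hm))
  have hP' : (P : Subgroup G) ≤ H.P1 := le_of_conj hP (m := c * m⁻¹) fun x hx => by
    simpa [mul_assoc] using hc _ (PLocal.Amb.conj_mem_cj m⁻¹ hx)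
  obtain ⟨n, b1, b2, -⟩ := tr P.isPGroup' P.not_dvd_index mψ hz (k := e 64)
    ⟨a4.1, fK0.1.2.2.2 _ (by simp [es]), a9⟩ fun x hx => by
      obtain ⟨i, hi, q, hq, h⟩ := hP' hx
      rw [h _ zg, ← map_mul]
      exact (H.fb i hi q hq).imp (congrArg ψ) (congrArg ψ)
  exact H.fin (hP' b1) (isConj_iff.2 ⟨n, rfl⟩) b2

end SA

theorem Base.red (H : Base φ y) : ∃ ψ : TG (TK bt3 tt3) →* G, St φ y ψ ty3 tx3 ∧
    ∃ ρ ∈ [e 0, e 1], ψ (e 136) * φ dx * (ψ (e 136) * φ dx * (ψ (e 136) * φ dx)) = ψ ρ := by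
  obtain ⟨γ, s, p, h1, h2, h3, ⟨rfl, rfl | rfl⟩ | ⟨rfl, rfl | rfl⟩⟩ := H.exists_γ
  · obtain ⟨ψ, S⟩ := H.st h1 h2 h3 f20
    obtain ⟨ρ, hρ, h⟩ := S.cube f00 f30
    obtain ⟨-, -, -, -, -, -, -, -, -, a, b, -⟩ := fK0
    have g2 : φ dx * ψ (e 128) * (φ dx)⁻¹ * (φ dx * ψ (e 128) * (φ dx)⁻¹) = 1 := by
      rw [cj_sq, ← map_mul, S.xr _ b, a, map_one]
    simp only [List.mem_cons, List.not_mem_nil, or_false] at hρ
    rcases hρ with rfl | rfl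
    · exact (SA.false ⟨S, S.ga f00 f400 h, g2, fa0, fb0⟩).elim
    · exact (SA.false ⟨S, S.ga f00 f401 h, g2, fa1, fb1⟩).elim
  · obtain ⟨ψ, S⟩ := H.st h1 h2 h3 f21
    simpa using S.cube f01 f31
  · obtain ⟨ψ, S⟩ := H.st h1 h2 h3 f22
    simpa using S.cube f02 f32
  · obtain ⟨ψ, S⟩ := H.st h1 h2 h3 f23
    exact ⟨ψ, S, S.cube f03 f33⟩

end Cfsg.Agent.Y12
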