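import Cfsg.Agent.Y12.BF

/-! The group of order `9216` embeds in `G`. -/

set_option autoImplicit false
set_option maxRecDepth 100000
set_option synthInstance.maxHeartbeats 400000
set_option synthInstance.maxSize 4000

namespace Cfsg.Agent.Y12

open Subgroup Cfsg.Agent.Comp Cfsg.Agent.X32 Cfsg.Agent.X32.TG Cfsg.Agent.LES Cfsg.Agent.He5
open Cfsg.Agent.Co3T (B x1 x2 lB)

variable {G : Type*} [Group G] [Finite G] {φ : D →* G} {y g : G} {ψ : K3 →* G} {th tj ta : ℕ}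
  {g1 g2 g3 : B}

theorem Via.mem {l : List B} {W : List ℕ} {c : B} (h : Via th tj l W c) {J : Subgroup B}
    (h1 : ∀ k, Z 256 k → θ th k ∈ J) (h2 : ∀ a ∈ l, a ∈ J) : c ∈ J := by
  have h3 : BN.ev (tup l) W ∈ J := BN.gen_le (fun k => by
    by_cases hk : k < l.length
    · exact h2 _ (by simp [tup, hk])
    · simp [tup, not_lt.1 hk]) (BN.ev_mem_gen _ W)
  simpa [h.2] using J.mul_mem (h1 _ h.1) h3

theorem St.exB (H : St φ y ψ ty3 tx3) (ga : ∀ k, g * ψ k * g⁻¹ = ψ (lq ta k))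
    (gg : g * g = ψ (lq tx3 (e 136 * e 136 : K3))) (c : FB1 th tj ta g1 g2 g3) :
    ∃ χ : B →* G, Function.Injective χ ∧ (∀ k, χ (θ th k) = ψ k) ∧ χ g1 = g := by
  obtain ⟨⟨a0, a1⟩, a2, ⟨v1, v2, v3, v4, v5, v6, v7⟩, ⟨b1, b2, b3, b4, b5, ⟨-, b6, b7⟩, b8, b9⟩,
    ⟨c1, c2, c3, c4⟩, a3⟩ := c
  let l0 : List (B × G) := g3Q.map fun u => (θ th u, ψ u)
  have k0 : l0.map Prod.fst = g3Q.map (θ th) := by simp [l0, Function.comp_def]
  have m0 : ∀ k, Z 256 k → (θ th k, ψ k) ∈ gr l0 :=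
    rank_on _ _ g3Q _ (by rw [a0, map_one]; exact one_mem _) (fun k hk => ((a1 k).1 hk).2.1)
      fun u hu k r ih => by
        simpa [r] using mul_mem (mem_gr (l := l0) (List.mem_map_of_mem hu)) ih
  have f0 : Fn (gr l0) := fun n hn => by
    obtain ⟨k, hk, e⟩ := gr_ind (P := fun q : B × G => ∃ k, Z 256 k ∧ q = (θ th k, ψ k))
      ⟨1, BD.of (by decide +kernel), by simp [a0, Prod.ext_iff]⟩ (fun q hq r ⟨k, hk, e⟩ => by
        obtain ⟨u, hu, rfl⟩ := List.mem_map.1 hq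
        exact ⟨_, (((a1 k).1 hk).1 u hu).1, by simp [(((a1 k).1 hk).1 u hu).2, e]⟩) _ hn
    rw [(Prod.mk.inj e).2, ((a1 k).1 hk).2.2.1 (Prod.mk.inj e).1.symm, map_one]
  let Δ := normalizer (gr l0 : Set (B × G))
  have inΔ : ∀ {a n}, (∀ u ∈ g3Q, ∃ k, Z 256 k ∧ a * θ th u * a⁻¹ = θ th k ∧ n * ψ u * n⁻¹ = ψ k) →
      (a, n) ∈ Δ := fun h => norm_gr fun q hq => by
    obtain ⟨u, hu, rfl⟩ := List.mem_map.1 hq
    obtain ⟨k, d1, d2, d3⟩ := h u hu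
    simpa [d2, d3] using m0 k d1
  have cjΔ : ∀ {p}, p ∈ Δ → ∀ q ∈ gr l0, p * q * p⁻¹ ∈ gr l0 := fun hp q hq =>
    (mem_normalizer_iff.1 hp q).1 hq
  have cen : ∀ {a n}, (a, n) ∈ Δ → ∀ v, Z 256 v → Commute a (θ th v) → Commute n (ψ v) :=
    fun h v hv c => X32.comm_of_conj (f0.eq (by simpa [conj_of_comm c] using cjΔ h _ (m0 v hv)) (m0 v hv))
  have ker : ∀ {n}, ((1 : B), n) ∈ Δ → ∃ v, Z 508 v ∧ ψ v = n := fun h =>
    H.inV f03 f53 fun u hu => cen h u ((BD.of (by decide +kernel) :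
      ∀ u ∈ (es [1, 2, 4, 8, 16, 32, 64, 128] : List K3), Z 256 u) u hu) (Commute.one_left _)
  have uniq : ∀ {a n n'}, (a, n) ∈ Δ → (a, n') ∈ Δ → n ^ 3 = 1 → n' ^ 3 = 1 →
      (∀ v, Z 508 v → Commute a (θ th v)) → n = n' := fun {a n n'} h h' d d' c => by
    obtain ⟨v, hv, e⟩ := ker (n := n⁻¹ * n') (by simpa using mul_mem (inv_mem h) h')
    obtain ⟨d1, d2, -⟩ := (a1 v).2.2 hv
    obtain rfl : n * ψ v = n' := by rw [e]; group
    rw [(cen h v d1 (c v hv)).mul_pow, d, one_mul, pow_succ, sq, ← map_mul, d2, map_one, one_mul] at d'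
    rw [d', mul_one]
  have lift : ∀ {a}, a ∈ Δ.map (MonoidHom.fst _ _) → a ^ 3 = 1 → ∃ n, (a, n) ∈ Δ ∧ n ^ 3 = 1 := by
    rintro _ ⟨⟨a, n⟩, h, rfl⟩ (d : a ^ 3 = 1)
    obtain ⟨v, hv, e⟩ := ker (n := n ^ 3) (by simpa [d] using pow_mem h 3)
    refine ⟨n ^ 4, by simpa [pow_succ a 3, d] using pow_mem h 4, ?_⟩
    rw [← pow_mul, mul_comm, pow_mul, ← e, ← map_pow, show 4 = 2 * 2 from rfl, pow_mul, sq v,
      ((a1 v).2.2 hv).2.1, one_pow, map_one]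
  have zy := fun k hk => ((a1 k).1 hk).2.2.2.1
  have za := fun k hk => ((a1 k).1 hk).2.2.2.2
  have yi : y⁻¹ = y * y := inv_eq_of_mul_eq_one_left H.y3
  have yy : ∀ k, Z 256 k → y⁻¹ * ψ k * y = ψ (y3 (y3 k)) := fun k hk => by
    rw [← H.yq _ (zy k hk), ← H.yq k hk, ← mul_assoc, ← mul_assoc, ← yi, mul_assoc _ _ y⁻¹,
      ← mul_inv_rev, ← yi, inv_inv]
  have d0 : (θ th (e 256), ψ (e 256)) ∈ Δ :=
    inΔ fun u hu => ⟨_, (a2 u hu).2.1.1, (a2 u hu).2.1.2, by simp⟩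
  have d1 : (g1, g) ∈ Δ := inΔ fun u hu => ⟨_, za _ (a2 u hu).1, (a2 u hu).2.2.1, ga u⟩
  have d2 : (g2, y * g * y⁻¹) ∈ Δ := inΔ fun u hu => by
    have z := zy _ (zy _ (a2 u hu).1)
    refine ⟨_, zy _ (za _ z), (a2 u hu).2.2.2.1, ?_⟩
    rw [← H.yq _ (za _ z), ← ga, ← yy _ (a2 u hu).1]; group
  have d3 : (g3, y⁻¹ * g * y) ∈ Δ := inΔ fun u hu => by
    have z := za _ (zy _ (a2 u hu).1)
    refine ⟨_, zy _ (zy _ z), (a2 u hu).2.2.2.2, ?_⟩
    rw [← yy _ z, ← ga, ← H.yq _ (a2 u hu).1]; group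
  have mΔ : ∀ {W c}, Via th tj [g1, g2, g3] W c → c ∈ Δ.map (MonoidHom.fst _ _) := fun h =>
    h.mem (fun k hk => ⟨_, le_normalizer (m0 k hk), rfl⟩) (by
      simpa only [List.forall_mem_cons, List.not_mem_nil, false_imp_iff, implies_true, and_true] using
        ⟨⟨_, d1, rfl⟩, ⟨_, d2, rfl⟩, _, d3, rfl⟩)
  obtain ⟨X1, e1, o1⟩ := lift (mΔ v1) b1
  obtain ⟨X2, e2, o2⟩ := lift (mΔ v2) b2
  have cV := fun c hc v hv => ((a1 v).2.2 hv).2.2 c hc
  have f1 := f0.cons Nat.prime_three e1 (by rw [Prod.pow_mk, b1, o1]; exact one_mem _) _ k0 c1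
  have k1 : ((x1, X1) :: l0).map Prod.fst = x1 :: g3Q.map (θ th) := congrArg (List.cons _) k0
  have f2 := f1.cons (a := x2) (g := X2) Nat.prime_three (norm_gr fun q hq => by
      rcases List.mem_cons.1 hq with rfl | hq
      · have := uniq (n := X2 * X1 * X2⁻¹) (by simpa [b3] using mul_mem (mul_mem e2 e1) (inv_mem e2))
          e1 (by rw [conj_pow, o1]; group) o1 (cV _ (by simp))
        simpa [b3, this] using mem_gr List.mem_cons_self
      · exact gr_cons (cjΔ e2 _ (mem_gr hq)))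
    (by rw [Prod.pow_mk, b2, o2]; exact one_mem _) _ k1 c2
  have k2 : ((x2, X2) :: (x1, X1) :: l0).map Prod.fst = x2 :: x1 :: g3Q.map (θ th) :=
    congrArg (List.cons _) k1
  have le2 : gr ((x2, X2) :: (x1, X1) :: l0) ≤ Δ := (closure_le _).2 fun p hp => by
    rcases List.mem_cons.1 hp with rfl | hp
    · exact e2
    rcases List.mem_cons.1 hp with rfl | hp
    exacts [e1, le_normalizer (mem_gr hp)]
  have nrm : ∀ {a n x X W}, (a, n) ∈ Δ → (x, X) ∈ Δ → x ^ 3 = 1 → X ^ 3 = 1 →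
      Via th tj [x2, x1] W (a * x * a⁻¹) → (∀ v, Z 508 v → Commute (a * x * a⁻¹) (θ th v)) →
      (a, n) * (x, X) * (a, n)⁻¹ ∈ gr ((x2, X2) :: (x1, X1) :: l0) := fun {a n x X W} h h' d d' v c => by
    obtain ⟨⟨_, m⟩, hm, rfl⟩ := v.mem (J := (gr ((x2, X2) :: (x1, X1) :: l0)).map (MonoidHom.fst _ _))
      (fun k hk => ⟨_, gr_cons (gr_cons (m0 k hk)), rfl⟩) (by
      simpa only [List.forall_mem_cons, List.not_mem_nil, false_imp_iff, implies_true, and_true] using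
        ⟨⟨_, mem_gr List.mem_cons_self, rfl⟩, _, gr_cons (mem_gr List.mem_cons_self), rfl⟩)
    have := uniq (le2 hm) (mul_mem (mul_mem h h') (inv_mem h))
      (f2 _ (by simpa [conj_pow, d] using pow_mem hm 3)) (by simp [conj_pow, d']) c
    rwa [this] at hm
  have n2 : ∀ {a n W W'}, (a, n) ∈ Δ → Via th tj [x2, x1] W (a * x1 * a⁻¹) →
      Via th tj [x2, x1] W' (a * x2 * a⁻¹) → (∀ v, Z 508 v → Commute (a * x1 * a⁻¹) (θ th v)) →
      (∀ v, Z 508 v → Commute (a * x2 * a⁻¹) (θ th v)) → ∀ q ∈ (x2, X2) :: (x1, X1) :: l0,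
      (a, n) * q * (a, n)⁻¹ ∈ gr ((x2, X2) :: (x1, X1) :: l0) := fun h v v' c c' q hq => by
    rcases List.mem_cons.1 hq with rfl | hq
    · exact nrm h e2 b2 o2 v' c'
    rcases List.mem_cons.1 hq with rfl | hq
    exacts [nrm h e1 b1 o1 v c, gr_cons (gr_cons (cjΔ h _ (mem_gr hq)))]
  have f3 := f2.cons Nat.prime_two (norm_gr (n2 d0 v3 v4 (cV _ (by simp)) (cV _ (by simp))))
    (by rw [Prod.pow_mk, b5, ← map_pow, b4, map_one]; exact one_mem _) _ k2 c3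
  have f4 := f3.cons (a := g1) (g := g) Nat.prime_two (norm_gr fun q hq => by
      rcases List.mem_cons.1 hq with rfl | hq
      · simpa [b9, ga] using mul_mem (gr_cons (gr_cons (gr_cons (m0 _ b8))))
          (mem_gr (l := (θ th (e 256), ψ (e 256)) :: (x2, X2) :: (x1, X1) :: l0) List.mem_cons_self)
      · exact gr_cons (n2 d1 v5 v6 (cV _ (by simp)) (cV _ (by simp)) q hq))
    (by rw [Prod.pow_mk, b7, sq, gg]; exact gr_cons (gr_cons (gr_cons (m0 _ b6)))) _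
    (by exact congrArg (List.cons _) k2) c4
  obtain ⟨χ, hχ⟩ := f4.hom fun k => by
    obtain ⟨q, hq, rfl⟩ := range_le_of_gen (φ := MonoidHom.id B) Co3T.topB
      (M := (gr ((g1, g) :: (θ th (e 256), ψ (e 256)) :: (x2, X2) :: (x1, X1) :: l0)).map
        (MonoidHom.fst _ _)) (fun j hj => by
        obtain ⟨W, -, h⟩ := v7 (tup lB j) (by simp [tup, hj])
        refine h.mem (fun k hk => ⟨_, gr_cons (gr_cons (gr_cons (gr_cons (m0 k hk)))), rfl⟩) ?_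
        simp only [List.forall_mem_cons, List.not_mem_nil, false_imp_iff, implies_true, and_true]
        exact ⟨⟨(g1, g), mem_gr (by simp), rfl⟩, ⟨(θ th (e 256), ψ (e 256)), mem_gr (by simp), rfl⟩,
          ⟨(x2, X2), mem_gr (by simp), rfl⟩, (x1, X1), mem_gr (by simp), rfl⟩) k
    exact ⟨q.2, hq⟩
  have r0 : ∀ k, Z 256 k → χ (θ th k) = ψ k := fun k hk =>
    hχ _ _ (gr_cons (gr_cons (gr_cons (gr_cons (m0 k hk)))))
  have r1 : ∀ c : B, c.v < 256 → χ c = 1 → c = 1 := fun c hc h => by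
    obtain ⟨d, d'⟩ := (a3 c).1 hc
    rw [← d', r0 _ d, map_eq_one_iff ψ H.inj1] at h
    rw [← d', h, a0]
  refine ⟨χ, (injective_iff_map_eq_one χ).2 fun c h => r1 c ((a3 c).2.2 fun u hu => ?_) h,
    fun k => (a1 k).2.1.elim (r0 k) fun d => ?_, hχ _ _ (mem_gr (by simp))⟩
  · obtain ⟨d, d'⟩ := (a3 _).1 ((a3 c).2.1 u hu).2
    rw [← d', H.inj1 (a₁ := lq tj _) (a₂ := u) (by rw [← r0 _ d, d', ← r0 _ (a2 u hu).1]; simp [h])]
  · rw [d.2, map_mul, r0 _ d.1, hχ _ (ψ (e 256)) (mem_gr (by simp)), ← map_mul, inv_mul_cancel_right]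

end Cfsg.Agent.Y12
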