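import Cfsg.Agent.Y12.Tab
import Cfsg.Agent.X32.M12Setup

/-! An involution with centraliser `2 × M₁₂`: the basic configuration. -/

set_option autoImplicit false
set_option maxRecDepth 100000
set_option synthInstance.maxHeartbeats 400000
set_option synthInstance.maxSize 4000

namespace Cfsg.Agent.Y12

open Subgroup Cfsg.Agent.Comp Cfsg.Agent.X32 Cfsg.Agent.X32.TG Cfsg.Agent.LES Cfsg.Agent.He5

abbrev D := TG TD

noncomputable def de : D := e (nat_lit 1)
noncomputable def dz : D := e (nat_lit 24)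
noncomputable def db : D := e (nat_lit 288)
noncomputable def dr : D := e (nat_lit 70)
noncomputable def dr' : D := e (nat_lit 206)
noncomputable def dj : D := e (nat_lit 52)
noncomputable def dt : D := e (nat_lit 130)
noncomputable def dx : D := e (nat_lit 18)
noncomputable def dp : D := e (nat_lit 22)

noncomputable def SD : Subgroup D := sub mS (BD.of (by decide +kernel))

instance memSD (k : D) {b : Bool} [BD (Mem mS k) b] : BD (k ∈ SD) b := ‹BD (Mem mS k) b›

theorem card_SD : Nat.card SD = 2 ^ 7 :=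
  (card_sub (· ∈ SD) fun _ => Iff.rfl).trans (by decide +kernel)

theorem SD_p : IsPGroup 2 SD := IsPGroup.of_card card_SD

noncomputable def hi (k : D) : K1 := e (Nat.shiftRight k.v (nat_lit 1))

instance evHi (k : D) {m : ℕ} [EV k m] : EV (hi k) (Nat.mod (Nat.shiftRight m (nat_lit 1)) T1.n) :=
  ⟨by rw [← EV.h (a := k)]; rfl⟩

def lo (k : D) : Prop := tb k.v 0 = true

instance bdLo (k : D) {m : ℕ} [EV k m] : BD (lo k) (tb m 0) := ⟨by rw [← EV.h (a := k)]; rfl⟩

variable {G : Type*} [Group G]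

structure Base (φ : D →* G) (y : G) : Prop where
  inj : Function.Injective φ
  cD : ∀ g, Commute g (φ de) → Commute g (φ dz) → ∃ k, φ k = g
  nsq : ∀ g, g * g ≠ φ de
  syl : ¬ 2 ∣ (SD.map φ).relIndex (centralizer {φ de})
  y3 : y * y * y = 1
  yt : φ dt * y * (φ dt)⁻¹ = y⁻¹
  ya : ∀ k, Mem mR k → y * φ k * y⁻¹ = φ (lq tY k)
  tr : ∀ M : Subgroup G, M.Normal → M.index = 2 → φ de ∈ M

theorem setup_MM' : ∃ φ : K1 →* MM, Setup φ (e 12) ∧
    ∀ W, φ (BN.ev g1 W) = BN.ev y12 (BN.subst ((List.range 11).map fun k => [k]) W) := by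
  have := finite12
  obtain ⟨φ, hφ⟩ := link_hom link1 (iA12 _ y12 sat12)
  have ez : φ (e 12) = BN.ev y12 [0, 0] := by
    rw [show (e 12 : K1) = BN.ev g1 [0, 0] from BD.of (p := e 12 = BN.ev (tup _) _) (by decide +kernel),
      hφ, ← BN.ev_subst]; rfl
  refine ⟨φ, Setup.of_card (fun h => ?_) (BD.of (by decide +kernel)) (BD.of (by decide +kernel))
    (es [1, 3, 5, 7]) (BD.of (by decide +kernel)) (by rw [ez, TG.card]; exact card_cent12),
    fun W => by rw [hφ, ← BN.ev_subst]; rfl⟩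
  have := z12_fix.2 4 (by rw [mem_mset]; exact ⟨by norm_num, by decide +kernel⟩) (by rw [← ez, h]; rfl)
  omega

theorem fHi : (∀ a b : D, hi (a * b) = hi a * hi b ∧ (lo (a * b) ↔ ¬ (lo a ↔ lo b))) ∧
    (∀ k : D, ¬ lo k → hi k = 1 → k = 1) ∧ (∀ c : K1, ∃ k : D, ¬ lo k ∧ hi k = c) ∧
    lo de ∧ hi de = 1 ∧ ¬ lo dz ∧ hi dz = e 12 ∧ ¬ lo dt ∧
    hi dt = BN.ev (tup (es [1, 2, 3, 4, 5, 6, 7, 8, 9, 10, 11])) [0, 2, 6] := BD.of (by decide +kernel)

def psY : List (List ℕ × List ℕ) := [([10], [0, 5]), ([0, 0], [0, 2, 4, 6]), ([0, 3], [0, 4, 10]),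
  ([0, 4], [0, 3, 10]), ([0, 6], [0, 7])]

theorem exists_base [Finite G] {t : G} (ht : orderOf t = 2) (hC : Nonempty
    (centralizer ({t} : Set G) ≃* Multiplicative (ZMod 2) × Spor.M12)) (hO : t ∈ pResidual 2 G) :
    ∃ (φ : D →* G) (y : G), Base φ y := by
  classical
  have := finite12
  obtain ⟨f⟩ := hC
  let f' := f.trans (MulEquiv.prodCongr (MulEquiv.refl _) Spor.ModelM12.equiv)
  obtain ⟨φ0, h0, hw⟩ := setup_MM'
  have t2 : t * t = 1 := by rw [← sq, ← ht, pow_orderOf_eq_one]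
  have t1 : t ≠ 1 := fun e => by simp [e] at ht
  let w : centralizer ({t} : Set G) := ⟨t, mem_cent.2 rfl⟩
  let μ : MM →* G := (centralizer {t}).subtype.comp (f'.symm.toMonoidHom.comp (MonoidHom.inr _ _))
  have μi : Function.Injective μ := (subtype_injective _).comp
    (f'.symm.injective.comp fun _ _ e => congrArg Prod.snd e)
  have μc : ∀ m, Commute (μ m) t := fun m => mem_cent.1 (f'.symm (1, m)).2
  let y0 : MM := BN.ev y12 [3, 11]
  have hy : ∀ p ∈ psY, y0 * φ0 (BN.ev g1 p.1) * y0⁻¹ = φ0 (BN.ev g1 p.2) := fun p hp => by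
    rw [hw, hw, mul_inv_eq_iff_eq_mul, ← BN.ev_append, ← BN.ev_append]
    exact ev12_eq ((allL_iff psY fun p => eqW 32 5 Spor.ModelM12.ns (BN.subst ws12 ([3, 11] ++
      BN.subst ((List.range 11).map fun k => [k]) p.1)) (BN.subst ws12
      (BN.subst ((List.range 11).map fun k => [k]) p.2 ++ [3, 11]))).1 (by decide +kernel) p hp)
  have hw2 : (f' w).2 = 1 := by
    have hc : ∀ m, Commute (f' w).2 m := fun m => by
      have : Commute w (f'.symm (1, m)) := Subtype.ext (μc m).symm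
      simpa [commute_iff_eq] using congrArg Prod.snd (this.map f').eq
    obtain ⟨k, hk⟩ := h0.cent _ (hc _)
    rcases (BD.of (by decide +kernel) : ∀ k : K1, (∀ g ∈ (es [1, 3, 5, 7] : List K1), Commute k g) →
      k = 1 ∨ k = e 12) k fun g _ => h0.comm_iff.1 (hk ▸ hc _) with rfl | rfl
    · rw [← hk, map_one]
    · have := hy ([0, 0], [0, 2, 4, 6]) (by simp [psY])
      rw [show BN.ev g1 [0, 0] = e 12 from BD.of (p := BN.ev (tup _) _ = e 12) (by decide +kernel),
        hk, conj_of_comm (hc _).symm, ← hk] at this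
      exact absurd (h0.inj this) (BD.of (p := e 12 ≠ BN.ev (tup _) _) (by decide +kernel))
  have hw1 : (f' w).1 ≠ 1 := fun e =>
    t1 (congrArg Subtype.val (f'.map_eq_one_iff.1 (Prod.ext e hw2)))
  have μt : ∀ m, μ m ≠ t := fun m e => hw1 (by
    rw [show w = f'.symm (1, m) from Subtype.ext e.symm]; simp)
  have dec : ∀ g, Commute g t → ∃ m, g = μ m ∨ g = t * μ m := fun g hg => by
    let g' : centralizer ({t} : Set G) := ⟨g, mem_cent.2 hg⟩
    refine ⟨(f' g').2, ((by decide : ∀ a b : Multiplicative (ZMod 2), b ≠ 1 → a = 1 ∨ a = b)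
      (f' g').1 _ hw1).imp (fun e => ?_) fun e => ?_⟩
    · exact congrArg Subtype.val (f'.eq_symm_apply.2 (Prod.ext e rfl) : g' = f'.symm (1, _))
    · refine congrArg Subtype.val (f'.injective ?_ : g' = w * f'.symm (1, _))
      rw [map_mul, f'.apply_symm_apply]
      exact Prod.ext (by simpa using e) (by simp [hw2])
  obtain ⟨a1, a2, a3, a4, a5, a6, a7, a8, a9⟩ := fHi
  let φ : D →* G := MonoidHom.mk' (fun k => (if lo k then t else 1) * μ (φ0 (hi k))) fun a b => by
    have c := (μc (φ0 (hi a))).eq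
    simp only [(a1 a b).1, (a1 a b).2, map_mul]
    by_cases ha : lo a <;> by_cases hb : lo b <;> simp [ha, hb, mul_assoc]
    · rw [← mul_assoc _ t, c, ← mul_assoc, ← mul_assoc, t2, one_mul]
    · rw [← mul_assoc, ← c, mul_assoc]
  have φ1 : ∀ k, ¬ lo k → φ k = μ (φ0 (hi k)) := fun k hk => by simp [φ, hk]
  have φe : φ de = t := by simp [φ, a4, a5]
  have inj : Function.Injective φ := (injective_iff_map_eq_one φ).2 fun k hk => by
    by_cases h : lo k
    · refine absurd ?_ (μt (φ0 (hi k))⁻¹)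
      rw [map_inv, inv_eq_iff_mul_eq_one, (μc _).eq]
      simpa [φ, h] using hk
    · exact a2 k h (h0.inj (μi (by rw [← φ1 k h, hk, map_one, map_one])))
  have cy : Commute (μ y0) t := μc _
  refine ⟨φ, μ y0, inj, fun g h1 h2 => ?_, fun g hg => ?_, ?_, ?_, ?_,
    act_rank _ _ (es [1, 22, 24, 26, 30, 34]) (fun g hg => ?_) (BD.of (by decide +kernel)),
    fun M hM hi => φe ▸ Transfer.pResidual_le_of_isPGroup_quotient
      (IsPGroup.of_card (n := 1) (by rw [pow_one]; exact hi)) hO⟩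
  · rw [φe] at h1
    rw [φ1 _ a6, a7] at h2
    have key : ∀ m, Commute (μ m) (μ (φ0 (e 12))) → ∃ k, φ k = μ m := fun m hm => by
      obtain ⟨c, rfl⟩ := h0.cent m (μi (by simpa using hm.eq))
      obtain ⟨k, b1, rfl⟩ := a3 c
      exact ⟨k, φ1 k b1⟩
    obtain ⟨m, rfl | rfl⟩ := dec g h1
    · exact key m h2
    · obtain ⟨k, hk⟩ := key m (by
        simpa [← mul_assoc, t2] using (μc (φ0 (e 12))).symm.mul_left h2)
      exact ⟨de * k, by rw [map_mul, φe, hk]⟩
  · rw [φe] at hg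
    obtain ⟨m, rfl | rfl⟩ := dec g (hg ▸ (Commute.refl g).mul_right (Commute.refl g))
    · exact μt (m * m) (by rwa [map_mul])
    · refine μt (m * m) ?_
      rwa [mul_assoc, ← mul_assoc _ t, (μc m).eq, ← mul_assoc, ← mul_assoc, t2, one_mul,
        ← map_mul] at hg
  · rw [φe, relIndex_of_card (b := 1485) (a := 2 ^ 7) (by
      rintro _ ⟨k, -, rfl⟩
      exact mem_cent.2 (φe ▸ ((BD.of (by decide +kernel) : ∀ k, Commute k de) k).map φ))
      ((Nat.card_congr (SD.equivMapOfInjective φ inj).toEquiv).symm.trans card_SD)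
      (by rw [Nat.card_congr f'.toEquiv, Nat.card_prod, Spor.ModelM12.G_card]; simp)]
    norm_num
  · rw [← map_mul, ← map_mul, ← BN.ev_append, ← BN.ev_append,
      ev12_eq (V := []) (by decide +kernel)]
    exact map_one μ
  · rw [φ1 _ a8, a9, ← map_inv μ, ← map_inv μ, ← map_mul, ← map_mul]
    refine congrArg μ ?_
    rw [show tup (es [1, 2, 3, 4, 5, 6, 7, 8, 9, 10, 11]) = g1 from rfl, hw,
      mul_inv_eq_iff_eq_mul, eq_inv_mul_iff_mul_eq, ← BN.ev_append, ← BN.ev_append]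
    exact ev12_eq (by decide +kernel)
  · rcases (BD.of (by decide +kernel) : ∀ g ∈ (es [1, 22, 24, 26, 30, 34] : List D),
      (g = de ∧ lq tY g = de) ∨ ∃ p ∈ psY, ¬ lo g ∧ ¬ lo (lq tY g) ∧
      hi g = BN.ev (tup (es [1, 2, 3, 4, 5, 6, 7, 8, 9, 10, 11])) p.1 ∧
      hi (lq tY g) = BN.ev (tup (es [1, 2, 3, 4, 5, 6, 7, 8, 9, 10, 11])) p.2) g hg with
      ⟨b1, b2⟩ | ⟨p, hp, b1, b2, b3, b4⟩
    · rw [b2, b1, φe, conj_of_comm cy]
    · rw [φ1 _ b1, φ1 _ b2, b3, b4, ← map_inv, ← map_mul, ← map_mul]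
      exact congrArg μ (hy p hp)

end Cfsg.Agent.Y12
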