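import Cfsg.Agent.Y12.Game

/-! The centraliser of `z` is generated by `B` and `u`. -/

set_option autoImplicit false
set_option maxRecDepth 100000
set_option synthInstance.maxHeartbeats 400000
set_option synthInstance.maxSize 4000

namespace Cfsg.Agent.Y12

open Subgroup Cfsg.Agent.Comp Cfsg.Agent.X32 Cfsg.Agent.X32.TG Cfsg.Agent.LES Cfsg.Agent.He5
open Cfsg.Agent.Co3T (B z b lk16 tcl gT)

theorem fZ : (∀ k : B, k.v < 1024 → (k * k = 1 → (∀ g ∈ gT, g * k * g⁻¹ = k ∨ g * k * g⁻¹ = z * k) →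
      k = 1 ∨ k = z ∨ k = b ∨ k = z * b) ∧ k ^ 8 = 1 ∧
    (k * k = z → (∃ β ∈ (es [2, 84, 168, 240] : List B), β * k⁻¹ * β⁻¹ = k) ∧
      (∃ c ∈ (es [2, 84, 86] : List B), Ct c ∧ Commute c k) ∧
      ∃ d ∈ (es [88, 90, 100, 124, 148, 164, 184, 212, 232, 244, 256, 258, 272, 274] : List B),
        Et d ∧ Commute d k)) ∧ (∀ g ∈ gT, g.v < 1024) ∧ b.v < 1024 ∧
    (e 4 : B) * e' * (e 4)⁻¹ = z * e' ∧ Et e' :=
  BD.of (by decide +kernel)

variable {G : Type*} [Group G] [Finite G] {χ : B →* G} {u : G}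

namespace IB
variable (H : IB χ u)
include H

omit H [Finite G] in
theorem z2 : χ z * χ z = 1 := Setup.sq fG.2.2.2.2.1.1

omit [Finite G] in
theorem z1 : χ z ≠ 1 := by simpa using H.inj.ne fG.2.2.2.2.1.2.2.1

omit H [Finite G] in
theorem fix {c a β : G} (h : c * a * c⁻¹ = β * a * β⁻¹) : Commute (β⁻¹ * c) a :=
  X32.comm_of_conj (by
    rw [show β⁻¹ * c * a * (β⁻¹ * c)⁻¹ = β⁻¹ * (c * a * c⁻¹) * β by group, h]; group)

theorem nb {c : G} (h1 : Commute c (χ z))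
    (h2 : c * χ b * c⁻¹ = χ b ∨ c * χ b * c⁻¹ = χ z * χ b) : c ∈ χ.range := by
  rcases h2 with h | h
  · exact H.cb h1 (X32.comm_of_conj h)
  · rw [← map_mul, ← fG.2.2.2.2.1.2.2.2.2.2.2.1, map_mul, map_mul, map_inv] at h
    exact (χ.range.mul_mem_cancel_left (inv_mem ⟨_, rfl⟩)).1
      (H.cb ((cz _).inv_left.mul_left h1) (fix h))

omit [Finite G] in
theorem ne {c : G} (h1 : Commute c (χ z))
    (h2 : c * χ e' * c⁻¹ = χ e' ∨ c * χ e' * c⁻¹ = χ z * χ e') : c ∈ χ.range ⊔ zpowers u := by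
  rcases h2 with h | h
  · exact H.c2 c (X32.comm_of_conj h) h1
  · rw [← map_mul, ← fZ.2.2.2.1, map_mul, map_mul, map_inv] at h
    exact (mul_mem_cancel_left (inv_mem (mχ _))).1 (H.c2 _ (fix h) ((cz _).inv_left.mul_left h1))

theorem syl : ¬ 2 ∣ (Co3T.T.map χ).relIndex (centralizer {χ z}) := fun hi => by
  obtain ⟨-, -, b1, -, -, -, -, -, bz⟩ := fG.2.2.2.2.1
  obtain ⟨n, hn, h3, h4, h5⟩ := exists_norm (L := χ.range) (Co3T.GD.pT.map χ)
    (by rintro _ ⟨k, -, rfl⟩; exact mem_cent.2 (cz k)) hi (by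
      rw [X32.relIndex_of_card (b := 9) (map_le_range _ _)
        ((Nat.card_congr (Co3T.T.equivMapOfInjective χ H.inj).toEquiv).symm.trans Co3T.card_T)
        ((Nat.card_congr (χ.ofInjective H.inj).toEquiv).symm.trans TG.card)]
      norm_num)
  have c := conj_of_comm (mem_cent.1 hn)
  obtain ⟨k, hk, e⟩ := h4 _ ⟨b, fZ.2.2.1, rfl⟩
  rcases (fZ.1 k hk).1 (H.inj (by rw [map_mul, e, conj_sq (Setup.sq fG.2.2.2.2.1.2.1), map_one]))
    fun g hg => by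
      obtain ⟨g', -, e'⟩ := h5 _ ⟨g, fZ.2.1 g hg, rfl⟩
      have : χ (g * k * g⁻¹) = n * χ (g'⁻¹⁻¹ * b * g'⁻¹) * n⁻¹ := by
        simp only [map_mul, map_inv, e, e']; group
      exact (fG.1 g'⁻¹).2.1.imp (fun h => H.inj (by rw [this, h, e])) fun h => H.inj (by
        rw [this, h, map_mul, map_mul, e]; nth_rewrite 2 [← c]; group) with rfl | rfl | rfl | rfl
  · exact fG.2.2.2.2.1.2.2.2.1 (H.inj (by simpa using e.symm : χ b = χ 1))
  · exact bz (H.inj (cj_inj (e.symm.trans c.symm)))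
  · exact h3 (H.nb (mem_cent.1 hn) (.inl e.symm))
  · exact h3 (H.nb (mem_cent.1 hn) (.inr (by rw [← e, map_mul])))

theorem intoT {w : G} (hw : w ∈ χ.range ⊔ zpowers u) (w4 : w * w * (w * w) = 1) :
    ∃ m ∈ χ.range ⊔ zpowers u, ∃ k : B, k.v < 1024 ∧ m * w * m⁻¹ = χ k :=
  Setup.conj_inv Co3T.GD.pT (fun h => H.syl (h.trans (Dvd.intro _ (relIndex_mul_relIndex _ _ _
    ((map_le_range _ _).trans le_sup_left) H.K_le)))) hw (j := 2)
    (by rw [← w4, show 2 ^ 2 = 4 from rfl]; simp only [pow_succ, pow_zero, one_mul, mul_assoc])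

theorem cases {s : G} (hs : s ∈ χ.range ⊔ zpowers u) (s2 : s * s = 1) (s1 : s ≠ 1) (sz : s ≠ χ z) :
    ∃ m ∈ χ.range ⊔ zpowers u, m * s * m⁻¹ = χ b ∨ m * s * m⁻¹ = χ e' := by
  obtain ⟨m, hm, k, hk, e⟩ := H.intoT hs (by simp [s2])
  have key : ∀ a, KC χ u k a → ∃ m ∈ χ.range ⊔ zpowers u, m * s * m⁻¹ = χ a :=
    fun a ⟨n, hn, e'⟩ => ⟨n * m, mul_mem hn hm, by rw [← e', ← e]; group⟩
  rcases (Co3T.fT2 k hk).1 (H.inj (by rw [map_mul, ← e, conj_sq s2, map_one])) with rfl | rfl | h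
  · exact absurd (by simpa using e) s1
  · exact absurd (cj_inj (e.trans (conj_of_comm (mem_cent.1 (H.K_le hm))).symm)) sz
  · rcases List.mem_append.1 (show _ ∈ (TG.es [2, 84, 512] : List B) ++ TG.es [88, 256, 768, 774]
      from h) with h | h
    exacts [(key _ (H.kc.1 k h)).imp fun _ h => ⟨h.1, .inl h.2⟩,
      (key _ (H.kc.2 k h)).imp fun _ h => ⟨h.1, .inr h.2⟩]

theorem cinv {s c : G} (hs : s ∈ χ.range ⊔ zpowers u) (s2 : s * s = 1) (s1 : s ≠ 1) (sz : s ≠ χ z)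
    (h1 : Commute c (χ z)) (h2 : c * s * c⁻¹ = s ∨ c * s * c⁻¹ = χ z * s) :
    c ∈ χ.range ⊔ zpowers u := by
  obtain ⟨m, hm, e⟩ := H.cases hs s2 s1 sz
  have c1 := mem_cent.1 (H.K_le hm)
  have c2 := (c1.mul_left h1).mul_left c1.inv_left
  have key : ∀ a, m * s * m⁻¹ = a → m * c * m⁻¹ * a * (m * c * m⁻¹)⁻¹ = a ∨
      m * c * m⁻¹ * a * (m * c * m⁻¹)⁻¹ = χ z * a := by
    rintro _ rfl
    rw [show m * c * m⁻¹ * (m * s * m⁻¹) * (m * c * m⁻¹)⁻¹ = m * (c * s * c⁻¹) * m⁻¹ by group]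
    exact h2.imp (fun h => by rw [h]) fun h => by rw [h, ← mul_assoc, c1.eq]; group
  refine (mul_mem_cancel_left hm).1 ((mul_mem_cancel_right (inv_mem hm)).1 ?_)
  exact e.elim (fun e => mem_sup_left (H.nb c2 (key _ e))) fun e => H.ne c2 (key _ e)

theorem step {c : G} (hc : Commute c (χ z)) {d : B} (hd : Et d) : ∃ s ∈ χ.range ⊔ zpowers u,
    s ≠ 1 ∧ s ≠ χ z ∧ (s * s = 1 ∨ s * s = χ z) ∧ c * χ b * c⁻¹ * s * (c * χ b * c⁻¹)⁻¹ = s⁻¹ ∧
    ∀ k, Commute (c * χ b * c⁻¹) k → Commute (χ d) k → Commute s k := by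
  obtain ⟨-, b2, -, -, e2, -, rb, e1, -⟩ := fG.2.2.2.2.1
  have cd := (H.kc.2 d hd).conj.symm
  have d2 : χ d * χ d = 1 := by
    obtain ⟨g, e⟩ := isConj_iff.1 cd
    rw [← e, conj_sq (Setup.sq e2)]
  obtain ⟨s, s1, s2, s3, s4, s5⟩ := dih (zpowers (χ z)) (conj_sq (g := c) (Setup.sq (φ := χ) b2)) d2
    fun g n hn e => H.ez ((cd.trans (isConj_iff.2 ⟨g, e⟩)).trans (IsConj.symm (H.zb.trans (by
      rcases (mem_zpowers_inv z2).1 hn with rfl | rfl
      · exact isConj_iff.2 ⟨c, (one_mul _).symm⟩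
      · refine (KC.of (u := u) rb).conj.trans (isConj_iff.2 ⟨c, ?_⟩)
        rw [map_mul, ← mul_assoc, hc.eq]; group))))
  · rw [mem_zpowers_inv z2] at s1 s2
    have s6 := fun k (a : Commute (c * χ b * c⁻¹) k) (a' : Commute (χ d) k) =>
      s5 k (by rw [conj_of_comm a, conj_of_comm a'])
    have e : s * χ d * s⁻¹ = s * s * χ d := by
      calc _ = s * (χ d * s * (χ d)⁻¹)⁻¹ * χ d := by group
        _ = _ := by rw [s4, inv_inv]
    exact ⟨s, H.cinv (mχ d) d2 (fun h => e1 (H.inj (by simpa [h] using cd : χ e' = χ 1)))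
      (fun h => H.ez (h ▸ cd)) (s6 _ ((hc.mul_left (cz b)).mul_left hc.inv_left) (cz d))
      (s2.imp (fun h => by rw [e, h, one_mul]) fun h => by rw [e, h]),
      fun h => s1 (.inl h), fun h => s1 (.inr h), s2, s3, s6⟩

theorem fin {c : G} (hc : Commute c (χ z)) (h : c * χ b * c⁻¹ ∈ χ.range ⊔ zpowers u) :
    c ∈ χ.range ⊔ zpowers u := by
  obtain ⟨-, b2, -, b1, -, -, -, -, bz⟩ := fG.2.2.2.2.1
  obtain ⟨m, hm, e | e⟩ := H.cases h (conj_sq (Setup.sq b2))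
    (fun h => b1 (H.inj (by simpa using h : χ b = χ 1)))
    fun h => bz (H.inj (cj_inj (h.trans (conj_of_comm hc).symm)))
  · exact (mul_mem_cancel_left hm).1 (mem_sup_left (H.cb ((mem_cent.1 (H.K_le hm)).mul_left hc)
      (X32.comm_of_conj (by nth_rewrite 2 [← e]; group))))
  · exact absurd (H.zb.trans (isConj_iff.2 ⟨m * c, by rw [← e]; group⟩)).symm H.ez

theorem lemB {c : G} (hc : Commute c (χ z)) {t d : B} (t2 : t * t = z) (hd : Et d) (h1 : Commute d t)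
    (h2 : Commute (c * χ b * c⁻¹) (χ t)) : c ∈ χ.range ⊔ zpowers u := by
  obtain ⟨s, hs, s1, sz, s2, s3, s4⟩ := H.step hc hd
  have cw := (hc.mul_left (cz b)).mul_left hc.inv_left
  refine H.fin hc (s2.elim (fun s2 => H.cinv hs s2 s1 sz cw (.inl (s3.trans (inv_self s2))))
    fun s2 => ?_)
  have c1 := s4 _ h2 (h1.map χ)
  have e : c * χ b * c⁻¹ * (s * χ t) * (c * χ b * c⁻¹)⁻¹ = χ z * (s * χ t) := by
    rw [← mul_assoc, mul_assoc _ (χ t), ← h2.inv_left.eq, ← mul_assoc, s3, ← mul_assoc,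
      ← inv_self z2, ← s2]; group
  have ne : ∀ a, Commute (c * χ b * c⁻¹) a → s * χ t ≠ a := fun a h e' =>
    H.z1 (by rw [e', conj_of_comm h] at e; simpa using e.symm)
  refine H.cinv (mul_mem hs (mχ t)) ?_ (ne _ (Commute.one_right _)) (ne _ cw) cw (.inr e)
  rw [mul_assoc, ← mul_assoc (χ t), ← c1.eq, mul_assoc, ← map_mul, t2, ← mul_assoc, s2, z2]

theorem lemC {s n : G} (hs : s ∈ χ.range ⊔ zpowers u) (s2 : s * s = χ z) (hn : Commute n (χ z))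
    (h : n * s * n⁻¹ = s⁻¹) : n ∈ χ.range ⊔ zpowers u := by
  obtain ⟨m, hm, t, ht, e⟩ := H.intoT hs (by rw [s2, z2])
  have cm := mem_cent.1 (H.K_le hm)
  have t2 : t * t = z := H.inj (by rw [map_mul, ← e, cj_sq, s2, conj_of_comm cm])
  obtain ⟨⟨β, -, a1⟩, ⟨c, -, a2, a3⟩, d, -, a4, a5⟩ := (fZ.1 t ht).2.2 t2
  obtain ⟨k, hk, a6⟩ := H.kc.1 c a2
  have c1 : Commute (χ β * (m * n * m⁻¹)) (χ t) := X32.comm_of_conj (by
    nth_rewrite 2 [← a1]
    rw [map_mul, map_mul, map_inv, map_inv, ← e, mul_inv_rev _ m⁻¹, mul_inv_rev m, ← h]; group)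
  have := H.lemB (c := χ β * (m * n * m⁻¹) * k⁻¹) (((cz β).mul_left ((cm.mul_left hn).mul_left
    cm.inv_left)).mul_left (mem_cent.1 (H.K_le hk)).inv_left) t2 a4 a5 (by
      have := cj_comm (χ β * (m * n * m⁻¹)) (a3.map χ)
      rw [conj_of_comm c1] at this
      convert this using 1
      rw [← a6]; group)
  exact (mul_mem_cancel_left hm).1 ((mul_mem_cancel_right (inv_mem hm)).1
    ((mul_mem_cancel_left (mχ β)).1 ((mul_mem_cancel_right (inv_mem hk)).1 this)))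

theorem cz_eq : centralizer {χ z} = χ.range ⊔ zpowers u := le_antisymm (fun c hc => by
  have hc := mem_cent.1 hc
  obtain ⟨s, hs, s1, sz, s2, s3, -⟩ := H.step hc fZ.2.2.2.2
  have cw := (hc.mul_left (cz b)).mul_left hc.inv_left
  exact H.fin hc (s2.elim (fun s2 => H.cinv hs s2 s1 sz cw (.inl (s3.trans (inv_self s2))))
    fun s2 => H.lemC hs s2 cw s3)) H.K_le

end IB

end Cfsg.Agent.Y12
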