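import Cfsg.Agent.Y12.Three

/-! General consequences: a transfer lemma, and centralisers. -/

set_option autoImplicit false
set_option maxRecDepth 100000
set_option synthInstance.maxHeartbeats 400000
set_option synthInstance.maxSize 4000

namespace Cfsg.Agent.Y12

open Subgroup Cfsg.Agent.Comp Cfsg.Agent.X32 Cfsg.Agent.X32.TG Cfsg.Agent.LES Cfsg.Agent.He5
open scoped Cfsg.Agent.PLocal.Amb

variable {G : Type*} [Group G] [Finite G] {T : Tab} [Fact T.OK]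

/-- a subset closed under products is a subgroup -/
def subOf (P : G → Prop) (h1 : P 1) (hm : ∀ a b, P a → P b → P (a * b)) : Subgroup G where
  carrier := {g | P g}
  one_mem' := h1
  mul_mem' := hm _ _
  inv_mem' := fun {g} hg => by
    have h : ∀ n, P (g ^ n) := fun n => by
      induction n with
      | zero => rwa [pow_zero]
      | succ n ih => rw [pow_succ]; exact hm _ _ ih hg
    rw [inv_eq_of_mul_eq_one_left (a := g ^ (orderOf g - 1)) (by
      rw [← pow_succ, Nat.sub_add_cancel (orderOf_pos g), pow_orderOf_eq_one])]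
    exact h _

theorem fZ2 : (∀ k ∈ SD, k * k = 1 → (∀ g ∈ [dr, dr', dj, dt], g * k * g⁻¹ = k ∨ g * k * g⁻¹ = dz * k) →
    k = 1 ∨ k = dz ∨ (k = db ∨ k = db * dz) ∨ k ∈ [de, de * dz, Y (de * dz), Y (Y (de * dz))]) ∧
    Mem mR (de * dz) ∧ Mem mR (Y (de * dz)) := BD.of (by decide +kernel)

namespace Base
variable {φ : D →* G} {y : G} (H : Base φ y)
include H

theorem conjE : ∀ k ∈ [de, de * dz, Y (de * dz), Y (Y (de * dz))], IsConj (φ de) (φ k) := by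
  obtain ⟨n, h, -⟩ := H.exists_n
  have h1 := isConj_iff.2 ⟨n, h⟩
  have h2 := h1.trans (isConj_iff.2 ⟨y, H.ya _ fZ2.2.1⟩)
  simpa only [List.forall_mem_cons, List.not_mem_nil, false_imp_iff, implies_true, and_true] using
    ⟨IsConj.refl _, h1, h2, h2.trans (isConj_iff.2 ⟨y, H.ya _ fZ2.2.2⟩)⟩

omit [Finite G] in
theorem ez' : ¬ IsConj (φ de) (φ dz) := fun h => (isConj_iff.1 h).elim fun _ => H.ez

theorem tr2 {P : Subgroup G} (hP : IsPGroup 2 P) (hi : ¬ 2 ∣ P.index) (hz : φ dz ∈ P)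
    (hc : ∀ x ∈ P, Commute x (φ dz)) (he : φ de ∈ P) {k : G} (hk : k ∈ P) (k2 : k * k = 1)
    (h1 : ∀ x ∈ P, x * k * x⁻¹ = k ∨ x * k * x⁻¹ = φ dz * k) (h2 : ¬ Commute (φ de) k)
    (h3 : ¬ IsConj (φ de) k) : ∃ n, n * φ de * n⁻¹ ∈ P ∧ Commute (n * φ de * n⁻¹) k ∧
      Commute n (φ dz) ∧ (n⁻¹ * k * n = φ db ∨ n⁻¹ * k * n = φ (db * dz)) := by
  have z2 : φ dz * φ dz = 1 := Setup.sq fD.2.2.1
  have e1 := (h1 _ he).resolve_left fun e => h2 (X32.comm_of_conj e)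
  have zk : φ dz * k ≠ k := by simpa using H.z1
  have h4 : (P ⊓ centralizer {k}).relIndex P = 2 := index_eq_two_iff.2 ⟨⟨_, he⟩, fun b => by
    have e2 : (b * φ de : G) * k * (b * φ de : G)⁻¹ = φ dz * (b * k * (b : G)⁻¹) := by
      calc _ = b * (φ de * k * (φ de)⁻¹) * (b : G)⁻¹ := by group
        _ = _ := by rw [e1, ← mul_assoc, (hc b b.2).eq]; group
    simp only [mem_subgroupOf, mem_inf, coe_mul, mem_cent, SetLike.coe_mem, true_and,
      P.mul_mem b.2 he]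
    rcases h1 b b.2 with h | h
    · exact .inr ⟨X32.comm_of_conj h, fun c => zk (by rw [← h, ← e2, conj_of_comm c, h])⟩
    · exact .inl ⟨X32.comm_of_conj (by rw [e2, h, ← mul_assoc, z2, one_mul]),
        fun c => zk (by rw [← h, conj_of_comm c])⟩⟩
  rcases Transfer.thompson_transfer_extremal (Nat.not_even_iff_odd.1 fun e => hi e.two_dvd)
    inf_le_left h4 (u := φ de) (by rw [sq, e2]) (SD_p.map φ)
    (by rintro _ ⟨k, -, rfl⟩; exact ce k) with ⟨M, a, b, c⟩ | ⟨n, ⟨a, b⟩, c⟩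
  · exact (c (H.tr M a b)).elim
  have key : ∀ x ∈ P, Commute x (n * φ de * n⁻¹) → ∃ u ∈ SD, φ u = n⁻¹ * x * n := fun x hx h =>
    le_of_odd (R := cj(n⁻¹, P) ⊓ centralizer {φ de}) H.syl
      ((PLocal.Amb.isPGroup_cj _ hP).to_inf_left)
      (le_inf (PLocal.Amb.cj_le_iff.1 c) (by rintro _ ⟨k, -, rfl⟩; exact mem_cent.2 (ce k)))
      inf_le_right ⟨PLocal.Amb.mem_cj.2 (by simpa [mul_assoc]), mem_cent.2 (by
        simpa [mul_assoc] using cj_comm n⁻¹ h)⟩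
  have hS : ∀ g ∈ [dr, dr', dj, dt], n * φ g * n⁻¹ ∈ P := fun g hg =>
    c (PLocal.Amb.conj_mem_cj n ⟨g, fD.2.2.2.2.2.2.2.2.2.2.2.2.2.2.2.1 g hg, rfl⟩)
  obtain ⟨u, -, eu⟩ := key _ hz (hc _ a).symm
  obtain ⟨v, hv, ev⟩ := key _ hk (mem_cent.1 b).symm
  have hu := fD.2.2.2.2.2.2.2.2.2.2.2.2.2.2.1 u fun g hg => (comm_iff H.inj).1 (by
    simpa [eu, mul_assoc] using cj_comm n⁻¹ (hc _ (hS g hg)).symm)
  have cz : ∀ {u}, φ u = n⁻¹ * φ dz * n → IsConj (φ u) (φ dz) := fun e =>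
    isConj_iff.2 ⟨n, by rw [e]; group⟩
  simp only [List.mem_cons, List.not_mem_nil, or_false] at hu
  obtain rfl : dz = u := by
    rcases hu with rfl | rfl | rfl | rfl
    · exact absurd (by simpa [eq_comm] using cz eu) H.z1
    · rfl
    · exact absurd (cz eu) H.ez'
    · exact absurd ((H.conjE _ (by simp)).trans (cz eu)) H.ez'
  have ek : k = n * φ v * n⁻¹ := by rw [ev]; group
  have cn : Commute n (φ dz) := X32.comm_of_conj (by nth_rewrite 1 [eu]; group)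
  refine ⟨n, a, mem_cent.1 b, cn, ?_⟩
  rcases fZ2.1 v hv (H.inj (by rw [map_mul, ev, map_one]; simpa using conj_sq (g := n⁻¹) k2))
    (fun g hg => (h1 _ (hS g hg)).imp (fun e => H.inj (cj_inj (g := n) (by
      rw [← ek, ← e, ek, map_mul, map_mul, map_inv]; group))) fun e => H.inj (cj_inj (g := n) (by
      rw [map_mul φ dz, ← mul_assoc n, cn.eq, mul_assoc (φ dz), mul_assoc (φ dz), ← ek, ← e, ek,
        map_mul, map_mul, map_inv]; group))) with rfl | rfl | h | h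
  · exact absurd (by simp [ek]) h2
  · exact absurd (by rw [ek, conj_of_comm cn]; exact Base.cz de) h2
  · exact h.imp (fun e => by rw [← ev, e]) fun e => by rw [← ev, e]
  · exact absurd ((H.conjE _ h).trans (isConj_iff.2 ⟨n, ek.symm⟩)) h3

end Base

abbrev F5 (T : Tab) [Fact T.OK] : Prop :=
  (∀ d : D, (d * db * d⁻¹ = db ∨ d * db * d⁻¹ = db * dz) → Z 192 (ι d : TG T) ∧ κ (ι d : TG T) = d) ∧
  (e 3 : TG T) = e 2 * e 1 ∧
  ∀ k : TG T, (∀ g ∈ (es [2, 4, 8, 16, 32, 64, 128] : List (TG T)), Commute k g) → Z 508 k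

theorem f50 : F5 (TK bt0 tt0) := BD.of (by decide +kernel)
theorem f53 : F5 (TK bt3 tt3) := BD.of (by decide +kernel)

namespace St
variable {φ : D →* G} {y : G} {ψ : TG T →* G} {ty tx : ℕ} (H : St φ y ψ ty tx)
include H

omit [Finite G] in
theorem bb (c : F0 T) : ψ (e 2) = φ db := by rw [H.sk _ c.2.2.1.1, c.2.2.1.2]

omit [Finite G] in
theorem inS (c0 : F0 T) (c : F5 T) {g : G} (h1 : Commute g (ψ (e 32))) (h2 : Commute g (ψ (e 1)))
    (h3 : g * ψ (e 2) * g⁻¹ = ψ (e 2) ∨ g * ψ (e 2) * g⁻¹ = ψ (e 3)) : ∃ k, Z 192 k ∧ ψ k = g := by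
  obtain ⟨d, rfl⟩ := H.cD g (H.ee c0 ▸ h1) (H.zz c0 ▸ h2)
  rw [c.2.1, map_mul, H.bb c0, H.zz c0, ← map_inv, ← map_mul, ← map_mul, ← map_mul] at h3
  obtain ⟨a, b⟩ := c.1 d (h3.imp (fun e => H.inj e) fun e => H.inj e)
  exact ⟨_, a, by rw [H.sk _ a, b]⟩

omit [Finite G] in
theorem inV (c0 : F0 T) (c : F5 T) {g : G}
    (h : ∀ u ∈ (es [1, 2, 4, 8, 16, 32, 64, 128] : List (TG T)), Commute g (ψ u)) :
    ∃ k, Z 508 k ∧ ψ k = g := by
  obtain ⟨k, -, rfl⟩ := H.inS c0 c (h _ (by simp [es])) (h _ (by simp [es]))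
    (.inl (conj_of_comm (h _ (by simp [es]))))
  exact ⟨k, c.2.2 k fun u hu => (comm_iff H.inj1).1 (h u (List.mem_cons_of_mem _ hu)), rfl⟩

end St

end Cfsg.Agent.Y12
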