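import Cfsg.Agent.Y12.B2

/-! A strategy for the dihedral-group argument in the centraliser of the four-group. -/

set_option autoImplicit false
set_option maxRecDepth 100000
set_option synthInstance.maxHeartbeats 400000
set_option synthInstance.maxSize 4000

namespace Cfsg.Agent.Y12

open Subgroup Cfsg.Agent.Comp Cfsg.Agent.X32 Cfsg.Agent.X32.TG Cfsg.Agent.LES Cfsg.Agent.He5
open Cfsg.Agent.Co3T (B z b lk16 tcl)

inductive Tr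
  | leaf (W : List ℕ) (β : ℕ)
  | node (d β : ℕ) (ws : List (List ℕ)) (ch : Tr)
  | nil
  | cons (s : ℕ) (t r : Tr)

def bd (p : Prop) {c : Bool} [BD p c] : Bool := c

theorem bd_iff (p : Prop) {c : Bool} [BD p c] : bd p = true ↔ p := BD.h

abbrev Es (β k : B) : Prop := β * k * β⁻¹ = e' ∨ β * k * β⁻¹ = Co3T.i

noncomputable def LK : List B := es 
  [4, 8, 12, 16, 20, 24, 28, 32, 36, 40, 44, 48, 52, 56, 60, 64, 68, 72, 76, 80, 84, 88, 92, 96,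
    100, 104, 108, 112, 116, 120, 124, 128, 132, 136, 140, 144, 148, 152, 156, 160, 164, 168, 172,
    176, 180, 184, 188, 192, 196, 200, 204, 208, 212, 216, 220, 224, 228, 232, 236, 240, 244, 248,
    252, 256, 260, 272, 276, 320, 324, 336, 340, 1024, 1032, 1056, 1064, 1152, 1160, 1184, 1192,
    1280, 1284, 1328, 1332, 1408, 1412, 1456, 1460, 4352, 4364, 4400, 4412, 4544, 4556, 4592, 4604,
    4864, 4876, 4896, 4908, 4928, 4940, 4960, 4972, 5120, 5124, 5152, 5156, 5312, 5316, 5344, 5348,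
    5376, 5384, 5424, 5432, 5440, 5448, 5488, 5496, 7168, 7176, 7184, 7192, 7360, 7368, 7376, 7384,
    7680, 7692, 7696, 7708, 7808, 7820, 7824, 7836]

noncomputable def ck (t : Tr) : B → List B → List B → Bool :=
  Tr.rec (motive := fun _ => B → List B → List B → Bool)
    (fun W β _ l l' => bd ((BN.ev (tup l) W = 1 ∧ BN.ev (tup l') W ≠ 1) ∨
      (Es (e β) (BN.ev (tup l) W) ∧ Mem 15 ((BN.ev (tup l) W)⁻¹ * BN.ev (tup l') W))))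
    (fun d β ws _ ih _ l l' => and' (bd (Es (e β) (e d) ∧ Commute (e d) b ∧ ∀ W ∈ ws,
        Commute (BN.ev (tup l) W) b ∧ e d * BN.ev (tup l) W * (e d)⁻¹ = BN.ev (tup l') W))
      (allL LK fun s => or' (not' (bd (e d * s * (e d)⁻¹ = s⁻¹ ∧
        ∀ W ∈ ws, Commute s (BN.ev (tup l) W)))) (ih s l l')))
    (fun _ _ _ => false)
    (fun s _ _ ih1 ih2 s' l l' => or' (and' (bd (s' = e s)) (ih1 s' (s' :: l) (s'⁻¹ :: l')))
      (ih2 s' l l')) t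

def tree : Tr := 
  .node 256 0 [] (.cons 4 (.node 1024 1536 [] (.cons 8 (.node 92 1536 [[0, 1]] (.cons 32 (.node 172
  256 [[1, 2]] (.cons 16 (.node 124 1280 [[0, 1, 2, 3]] (.cons 124 (.leaf [0] 1280) (.cons 128
  (.leaf [0, 1, 3] 3840) (.cons 192 (.leaf [0, 1, 4] 3584) .nil)))) (.cons 48 (.node 92 1536 [[0, 1,
  2, 3]] (.cons 92 (.leaf [0] 1536) (.cons 128 (.leaf [0, 1, 3] 5376) (.cons 192 (.leaf [0, 1, 3] 0)
  .nil)))) (.cons 64 (.leaf [0, 1, 2] 1792) (.cons 80 (.leaf [0, 2] 1024) (.cons 112 (.leaf [0, 3]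
  8704) (.cons 172 (.leaf [0] 256) (.cons 192 (.leaf [0, 1, 2] 7168) (.cons 208 (.leaf [0, 3] 3584)
  (.cons 240 (.leaf [0, 2] 0) .nil)))))))))) (.cons 48 (.node 124 1280 [[1, 2]] (.cons 16 (.node 172
  256 [[0, 1, 2, 3]] (.cons 64 (.leaf [0, 1, 3] 1024) (.cons 172 (.leaf [0] 256) (.cons 192 (.leaf
  [0, 1, 4] 3584) .nil)))) (.cons 32 (.node 92 1536 [[0, 1, 2, 3]] (.cons 92 (.leaf [0] 1536) (.cons
  128 (.leaf [0, 1, 4] 3072) (.cons 192 (.leaf [0, 1, 3] 7168) .nil)))) (.cons 124 (.leaf [0] 1280)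
  (.cons 128 (.leaf [0, 1, 2] 5376) (.cons 144 (.leaf [0, 2] 3840) (.cons 160 (.leaf [0, 3] 3072)
  (.cons 192 (.leaf [0, 1, 2] 0) (.cons 208 (.leaf [0, 3] 3584) (.cons 224 (.leaf [0, 2] 7168)
  .nil)))))))))) (.cons 92 (.leaf [0] 1536) (.cons 128 (.node 172 256 [[1, 2]] (.cons 16 (.leaf [0,
  1, 2] 3840) (.cons 48 (.leaf [0, 1, 2] 5376) (.cons 64 (.node 220 5120 [[0, 1, 2, 3]] (.cons 32
  (.leaf [0, 1, 3] 1792) (.cons 48 (.leaf [0, 1, 4] 8704) (.cons 220 (.leaf [0] 5120) .nil))))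
  (.cons 80 (.leaf [0, 2] 1024) (.cons 112 (.leaf [0, 3] 8704) (.cons 172 (.leaf [0] 256) (.cons 192
  (.node 92 1536 [[0, 1, 2, 3]] (.cons 32 (.leaf [0, 1, 3] 7168) (.cons 48 (.leaf [0, 1, 3] 0)
  (.cons 92 (.leaf [0] 1536) .nil)))) (.cons 208 (.leaf [0, 3] 3584) (.cons 240 (.leaf [0, 2] 0)
  .nil)))))))))) (.cons 160 (.leaf [0, 2] 3072) (.cons 176 (.leaf [0, 1] 5376) (.cons 192 (.node 220
  5120 [[1, 2]] (.cons 32 (.leaf [0, 1, 2] 7168) (.cons 48 (.leaf [0, 1, 2] 0) (.cons 64 (.node 172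
  256 [[0, 1, 2, 3]] (.cons 16 (.leaf [0, 1, 3] 1024) (.cons 48 (.leaf [0, 1, 4] 8704) (.cons 172
  (.leaf [0] 256) .nil)))) (.cons 96 (.leaf [0, 2] 1792) (.cons 112 (.leaf [0, 3] 8704) (.cons 128
  (.node 92 1536 [[0, 1, 2, 3]] (.cons 32 (.leaf [0, 1, 4] 3072) (.cons 48 (.leaf [0, 1, 3] 5376)
  (.cons 92 (.leaf [0] 1536) .nil)))) (.cons 160 (.leaf [0, 3] 3072) (.cons 176 (.leaf [0, 2] 5376)
  (.cons 220 (.leaf [0] 5120) .nil)))))))))) (.cons 224 (.leaf [0, 1] 7168) (.cons 240 (.leaf [0, 1]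
  0) .nil)))))))))) (.cons 32 (.node 5376 4096 [] (.cons 8 (.node 172 256 [[0, 2]] (.cons 16 (.node
  124 1280 [[0, 1, 2, 3]] (.cons 124 (.leaf [0] 1280) (.cons 128 (.leaf [0, 1, 2] 3840) (.cons 192
  (.leaf [0, 1, 4] 3584) .nil)))) (.cons 48 (.node 92 1536 [[0, 1, 2, 3]] (.cons 92 (.leaf [0] 1536)
  (.cons 128 (.leaf [0, 1, 2] 5376) (.cons 192 (.leaf [0, 1, 2] 0) .nil)))) (.cons 64 (.leaf [0, 1,
  2] 1792) (.cons 80 (.leaf [0, 1] 1024) (.cons 112 (.leaf [0, 3] 8704) (.cons 172 (.leaf [0] 256)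
  (.cons 192 (.leaf [0, 1, 2] 7168) (.cons 208 (.leaf [0, 3] 3584) (.cons 240 (.leaf [0, 1] 0)
  .nil)))))))))) (.cons 48 (.node 148 4864 [[0, 1]] (.cons 8 (.node 92 1536 [[0, 1, 2, 3]] (.cons 92
  (.leaf [0] 1536) (.cons 128 (.leaf [0, 1, 2] 5376) (.cons 192 (.leaf [0, 1, 2] 0) .nil)))) (.cons
  12 (.node 88 1024 [[0, 1, 2, 3]] (.cons 88 (.leaf [0] 1024) (.cons 128 (.leaf [0, 1, 2] 8192)
  (.cons 192 (.leaf [0, 1, 3] 4096) .nil)))) (.cons 64 (.leaf [0, 1, 3] 8704) (.cons 72 (.leaf [0,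
  2] 1792) (.cons 76 (.leaf [0, 1] 1280) (.cons 148 (.leaf [0] 4864) (.cons 192 (.leaf [0, 1, 3]
  4352) (.cons 200 (.leaf [0, 1] 0) (.cons 204 (.leaf [0, 2] 4096) .nil)))))))))) (.cons 56 (.node
  92 1536 [[0, 1, 2]] (.cons 92 (.leaf [0] 1536) (.cons 128 (.leaf [0, 1] 5376) (.cons 192 (.leaf
  [0, 1] 0) .nil)))) (.cons 64 (.leaf [0, 1, 2] 7680) (.cons 72 (.leaf [0, 1] 1792) (.cons 112
  (.leaf [0, 2] 8704) (.cons 120 (.leaf [0, 1] 1056) (.cons 5376 (.leaf [0] 4096) (.cons 5496 (.leaf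
  [0] 4264) .nil)))))))))) (.cons 40 (.node 220 5120 [[0, 1]] (.cons 32 (.node 172 256 [[0, 1, 2]]
  (.cons 16 (.node 124 1280 [[0, 2, 3]] (.cons 124 (.leaf [0] 1280) (.cons 128 (.leaf [0, 1, 3]
  5376) (.cons 192 (.leaf [0, 3] 7168) .nil)))) (.cons 48 (.node 92 1536 [[0, 2, 3]] (.cons 92
  (.leaf [0] 1536) (.cons 128 (.leaf [0, 1, 3] 3858) (.cons 192 (.leaf [0, 3] 7168) .nil)))) (.cons
  64 (.leaf [0, 2] 1792) (.cons 80 (.leaf [0, 1, 2] 1056) (.cons 112 (.leaf [0, 2] 1056) (.cons 172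
  (.leaf [0] 256) (.cons 192 (.leaf [0, 2] 7168) (.cons 208 (.leaf [0, 2] 0) (.cons 240 (.leaf [0,
  3] 4352) .nil)))))))))) (.cons 64 (.leaf [0, 1] 1792) (.cons 96 (.leaf [0, 2] 7680) (.cons 128
  (.leaf [0, 1, 2] 260) (.cons 160 (.leaf [0, 2] 3072) .nil)))))) (.cons 128 (.node 4864 3584 []
  (.cons 12 (.node 152 3840 [[0, 2]] (.cons 32 (.leaf [0, 1, 2] 256) (.cons 48 (.leaf [0, 1, 2]
  8192) (.cons 64 (.node 232 7168 [[0, 1, 2, 3]] (.cons 16 (.leaf [0, 1, 2] 1536) (.cons 48 (.leaf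
  [0, 1, 2] 1280) (.cons 232 (.leaf [0] 7168) .nil)))) (.cons 96 (.leaf [0, 3] 7680) (.cons 112
  (.leaf [0, 1] 1280) (.cons 152 (.leaf [0] 3840) (.cons 192 (.node 88 1024 [[0, 1, 2, 3]] (.cons 32
  (.leaf [0, 1, 2] 4096) (.cons 48 (.leaf [0, 1, 4] 4352) (.cons 88 (.leaf [0] 1024) .nil)))) (.cons
  224 (.leaf [0, 1] 4096) (.cons 240 (.leaf [0, 3] 4352) .nil)))))))))) (.cons 32 (.leaf [0, 1, 2]
  3072) (.cons 44 (.leaf [0, 1] 256) (.cons 64 (.node 212 3584 [[0, 1]] (.cons 8 (.node 220 5120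
  [[0, 1, 2, 3]] (.cons 32 (.leaf [0, 1, 2] 1792) (.cons 48 (.leaf [0, 1, 3] 5376) (.cons 220 (.leaf
  [0] 5120) .nil)))) (.cons 12 (.node 232 7168 [[0, 1, 2, 3]] (.cons 16 (.leaf [0, 1, 2] 1536)
  (.cons 48 (.leaf [0, 1, 2] 1280) (.cons 232 (.leaf [0] 7168) .nil)))) (.cons 32 (.leaf [0, 1, 3]
  7680) (.cons 40 (.leaf [0, 1] 1792) (.cons 44 (.leaf [0, 2] 256) (.cons 48 (.leaf [0, 1, 3] 8704)
  (.cons 56 (.leaf [0, 2] 5376) (.cons 60 (.leaf [0, 1] 1280) (.cons 212 (.leaf [0] 3584)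
  .nil)))))))))) (.cons 76 (.node 232 7168 [[0, 1, 2]] (.cons 16 (.leaf [0, 1] 1536) (.cons 48
  (.leaf [0, 1] 1280) (.cons 232 (.leaf [0] 7168) .nil)))) (.cons 96 (.leaf [0, 2] 7680) (.cons 108
  (.leaf [0, 1] 4096) (.cons 4864 (.leaf [0] 3584) (.cons 4972 (.leaf [0] 3752) .nil))))))))))
  (.cons 136 (.node 124 1280 [[0, 1]] (.cons 16 (.leaf [0, 1] 3840) (.cons 32 (.leaf [0, 1, 2] 260)
  (.cons 128 (.node 172 256 [[0, 1, 2]] (.cons 16 (.leaf [0, 2] 3840) (.cons 48 (.leaf [0, 2] 5376)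
  (.cons 64 (.node 220 5120 [[0, 2, 3]] (.cons 32 (.leaf [0, 1, 3] 7168) (.cons 48 (.leaf [0, 3]
  5376) (.cons 220 (.leaf [0] 5120) .nil)))) (.cons 80 (.leaf [0, 1, 2] 1068) (.cons 112 (.leaf [0,
  2] 0) (.cons 172 (.leaf [0] 256) (.cons 192 (.node 92 1536 [[0, 2, 3]] (.cons 32 (.leaf [0, 1, 3]
  1831) (.cons 48 (.leaf [0, 3] 5376) (.cons 92 (.leaf [0] 1536) .nil)))) (.cons 208 (.leaf [0, 2]
  1068) (.cons 240 (.leaf [0, 3] 4352) .nil)))))))))) (.cons 144 (.leaf [0, 2] 4864) (.cons 160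
  (.leaf [0, 2] 3072) .nil)))))) (.cons 160 (.leaf [0, 1] 3072) (.cons 168 (.leaf [0, 1] 260) (.cons
  1024 (.leaf [0] 1536) (.cons 1192 (.leaf [0] 1788) .nil)))))))))) (.cons 16 (.node 1024 1536 []
  (.cons 8 (.node 1280 1792 [] (.cons 4 (.node 92 1536 [[0, 1]] (.cons 32 (.node 124 1280 [[0, 1, 2,
  3]] (.cons 124 (.leaf [0] 1280) (.cons 128 (.leaf [0, 1, 2] 3072) (.cons 192 (.leaf [0, 1, 3]
  7168) .nil)))) (.cons 48 (.node 172 256 [[0, 1, 2, 3]] (.cons 64 (.leaf [0, 1, 2] 8704) (.cons 172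
  (.leaf [0] 256) (.cons 192 (.leaf [0, 1, 2] 4352) .nil)))) (.cons 92 (.leaf [0] 1536) (.cons 128
  (.leaf [0, 1, 3] 4864) (.cons 160 (.leaf [0, 1] 3072) (.cons 176 (.leaf [0, 2] 5376) (.cons 192
  (.leaf [0, 1, 3] 3584) (.cons 224 (.leaf [0, 2] 7168) (.cons 240 (.leaf [0, 1] 4352)
  .nil)))))))))) (.cons 48 (.node 104 1792 [[0, 2]] (.cons 4 (.node 172 256 [[0, 1, 2, 3]] (.cons 64
  (.leaf [0, 1, 2] 8704) (.cons 172 (.leaf [0] 256) (.cons 192 (.leaf [0, 1, 2] 4352) .nil))))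
  (.cons 12 (.node 100 7680 [[0, 1, 2, 3]] (.cons 100 (.leaf [0] 7680) (.cons 128 (.leaf [0, 1, 2]
  8192) (.cons 192 (.leaf [0, 1, 4] 5120) .nil)))) (.cons 104 (.leaf [0] 1792) (.cons 128 (.leaf [0,
  1, 2] 5376) (.cons 132 (.leaf [0, 3] 4864) (.cons 140 (.leaf [0, 1] 8192) (.cons 192 (.leaf [0, 1,
  2] 0) (.cons 196 (.leaf [0, 1] 4352) (.cons 204 (.leaf [0, 3] 5120) .nil)))))))))) (.cons 52
  (.node 172 256 [[0, 1, 2]] (.cons 64 (.leaf [0, 1] 8704) (.cons 172 (.leaf [0] 256) (.cons 192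
  (.leaf [0, 1] 4352) .nil)))) (.cons 128 (.leaf [0, 1, 2] 3840) (.cons 132 (.leaf [0, 2] 4864)
  (.cons 176 (.leaf [0, 1] 5376) (.cons 180 (.leaf [0, 1] 8192) (.cons 1280 (.leaf [0] 1792) (.cons
  1460 (.leaf [0] 2044) .nil)))))))))) (.cons 32 (.node 116 8704 [[0, 1]] (.cons 8 (.node 184 5376
  [[1, 2]] (.cons 4 (.node 124 1280 [[0, 1, 2, 3]] (.cons 124 (.leaf [0] 1280) (.cons 128 (.leaf [0,
  1, 3] 3072) (.cons 192 (.leaf [0, 1, 4] 3584) .nil)))) (.cons 12 (.node 116 8704 [[0, 1, 2, 3]]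
  (.cons 116 (.leaf [0] 8704) (.cons 128 (.leaf [0, 1, 3] 256) (.cons 192 (.leaf [0, 1, 3] 4096)
  .nil)))) (.cons 64 (.leaf [0, 1, 2] 1792) (.cons 68 (.leaf [0, 2] 7680) (.cons 76 (.leaf [0, 3]
  1536) (.cons 184 (.leaf [0] 5376) (.cons 192 (.leaf [0, 1, 2] 7168) (.cons 196 (.leaf [0, 3] 3584)
  (.cons 204 (.leaf [0, 2] 4096) .nil)))))))))) (.cons 12 (.node 124 1280 [[1, 2]] (.cons 4 (.node
  184 5376 [[0, 1, 2, 3]] (.cons 64 (.leaf [0, 1, 3] 7680) (.cons 184 (.leaf [0] 5376) (.cons 192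
  (.leaf [0, 1, 4] 3584) .nil)))) (.cons 8 (.node 116 8704 [[0, 1, 2, 3]] (.cons 116 (.leaf [0]
  8704) (.cons 128 (.leaf [0, 1, 4] 3840) (.cons 192 (.leaf [0, 1, 3] 7168) .nil)))) (.cons 124
  (.leaf [0] 1280) (.cons 128 (.leaf [0, 1, 2] 256) (.cons 132 (.leaf [0, 2] 3072) (.cons 136 (.leaf
  [0, 3] 3840) (.cons 192 (.leaf [0, 1, 2] 4096) (.cons 196 (.leaf [0, 3] 3584) (.cons 200 (.leaf
  [0, 2] 7168) .nil)))))))))) (.cons 116 (.leaf [0] 8704) (.cons 128 (.node 184 5376 [[1, 2]] (.cons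
  4 (.leaf [0, 1, 2] 3072) (.cons 12 (.leaf [0, 1, 2] 256) (.cons 64 (.node 244 4352 [[0, 1, 2, 3]]
  (.cons 8 (.leaf [0, 1, 3] 1792) (.cons 12 (.leaf [0, 1, 4] 1536) (.cons 244 (.leaf [0] 4352)
  .nil)))) (.cons 68 (.leaf [0, 2] 7680) (.cons 76 (.leaf [0, 3] 1536) (.cons 184 (.leaf [0] 5376)
  (.cons 192 (.node 116 8704 [[0, 1, 2, 3]] (.cons 8 (.leaf [0, 1, 3] 7168) (.cons 12 (.leaf [0, 1,
  3] 4096) (.cons 116 (.leaf [0] 8704) .nil)))) (.cons 196 (.leaf [0, 3] 3584) (.cons 204 (.leaf [0,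
  2] 4096) .nil)))))))))) (.cons 136 (.leaf [0, 2] 3840) (.cons 140 (.leaf [0, 1] 256) (.cons 192
  (.node 244 4352 [[1, 2]] (.cons 8 (.leaf [0, 1, 2] 7168) (.cons 12 (.leaf [0, 1, 2] 4096) (.cons
  64 (.node 184 5376 [[0, 1, 2, 3]] (.cons 4 (.leaf [0, 1, 3] 7680) (.cons 12 (.leaf [0, 1, 4] 1536)
  (.cons 184 (.leaf [0] 5376) .nil)))) (.cons 72 (.leaf [0, 2] 1792) (.cons 76 (.leaf [0, 3] 1536)
  (.cons 128 (.node 116 8704 [[0, 1, 2, 3]] (.cons 8 (.leaf [0, 1, 4] 3840) (.cons 12 (.leaf [0, 1,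
  3] 256) (.cons 116 (.leaf [0] 8704) .nil)))) (.cons 136 (.leaf [0, 3] 3840) (.cons 140 (.leaf [0,
  2] 256) (.cons 244 (.leaf [0] 4352) .nil)))))))))) (.cons 200 (.leaf [0, 1] 7168) (.cons 204
  (.leaf [0, 1] 4096) .nil)))))))))) (.cons 40 (.node 244 4352 [[0, 1]] (.cons 8 (.node 184 5376
  [[0, 1, 2]] (.cons 4 (.node 124 1280 [[0, 2, 3]] (.cons 124 (.leaf [0] 1280) (.cons 128 (.leaf [0,
  1, 3] 256) (.cons 192 (.leaf [0, 3] 7168) .nil)))) (.cons 12 (.node 116 8704 [[0, 2, 3]] (.cons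
  116 (.leaf [0] 8704) (.cons 128 (.leaf [0, 1, 3] 3085) (.cons 192 (.leaf [0, 3] 7168) .nil))))
  (.cons 64 (.leaf [0, 2] 1792) (.cons 68 (.leaf [0, 1, 2] 7684) (.cons 76 (.leaf [0, 2] 7684)
  (.cons 184 (.leaf [0] 5376) (.cons 192 (.leaf [0, 2] 7168) (.cons 196 (.leaf [0, 2] 4096) (.cons
  204 (.leaf [0, 3] 5120) .nil)))))))))) (.cons 64 (.leaf [0, 1] 1792) (.cons 72 (.leaf [0, 2] 1024)
  (.cons 128 (.leaf [0, 1, 2] 5408) (.cons 136 (.leaf [0, 2] 3840) .nil)))))) (.cons 128 (.node 5120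
  1280 [] (.cons 4 (.leaf [0, 1, 2] 4864) (.cons 32 (.node 184 5376 [[0, 2]] (.cons 4 (.leaf [0, 1,
  2] 3072) (.cons 12 (.leaf [0, 1, 2] 256) (.cons 64 (.node 244 4352 [[0, 1, 2, 3]] (.cons 8 (.leaf
  [0, 1, 2] 1792) (.cons 12 (.leaf [0, 1, 4] 1536) (.cons 244 (.leaf [0] 4352) .nil)))) (.cons 68
  (.leaf [0, 1] 7680) (.cons 76 (.leaf [0, 3] 1536) (.cons 184 (.leaf [0] 5376) (.cons 192 (.node
  116 8704 [[0, 1, 2, 3]] (.cons 8 (.leaf [0, 1, 2] 7168) (.cons 12 (.leaf [0, 1, 2] 4096) (.cons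
  116 (.leaf [0] 8704) .nil)))) (.cons 196 (.leaf [0, 3] 3584) (.cons 204 (.leaf [0, 1] 4096)
  .nil)))))))))) (.cons 36 (.leaf [0, 1] 3072) (.cons 192 (.node 88 1024 [[0, 1]] (.cons 4 (.leaf
  [0, 1, 3] 3584) (.cons 12 (.leaf [0, 1, 3] 5120) (.cons 32 (.node 116 8704 [[0, 1, 2, 3]] (.cons 8
  (.leaf [0, 1, 2] 7168) (.cons 12 (.leaf [0, 1, 2] 4096) (.cons 116 (.leaf [0] 8704) .nil))))
  (.cons 36 (.leaf [0, 2] 3072) (.cons 44 (.leaf [0, 1] 4096) (.cons 48 (.node 100 7680 [[0, 1, 2,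
  3]] (.cons 8 (.leaf [0, 1, 2] 0) (.cons 12 (.leaf [0, 1, 3] 8192) (.cons 100 (.leaf [0] 7680)
  .nil)))) (.cons 52 (.leaf [0, 1] 4352) (.cons 60 (.leaf [0, 2] 8192) (.cons 88 (.leaf [0] 1024)
  .nil)))))))))) (.cons 196 (.leaf [0, 2] 3584) (.cons 224 (.node 116 8704 [[0, 1, 2]] (.cons 8
  (.leaf [0, 1] 7168) (.cons 12 (.leaf [0, 1] 4096) (.cons 116 (.leaf [0] 8704) .nil)))) (.cons 228
  (.leaf [0, 1] 7700) (.cons 5120 (.leaf [0] 1280) (.cons 5348 (.leaf [0] 1532) .nil))))))))))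
  (.cons 136 (.leaf [0, 1] 3840) (.cons 160 (.node 124 1280 [[0, 1]] (.cons 4 (.leaf [0, 1] 3072)
  (.cons 8 (.leaf [0, 1, 2] 5408) (.cons 128 (.node 184 5376 [[0, 1, 2]] (.cons 4 (.leaf [0, 2]
  3072) (.cons 12 (.leaf [0, 2] 256) (.cons 64 (.node 244 4352 [[0, 2, 3]] (.cons 8 (.leaf [0, 1, 3]
  7168) (.cons 12 (.leaf [0, 3] 256) (.cons 244 (.leaf [0] 4352) .nil)))) (.cons 68 (.leaf [0, 1, 2]
  7700) (.cons 76 (.leaf [0, 2] 4096) (.cons 184 (.leaf [0] 5376) (.cons 192 (.node 116 8704 [[0, 2,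
  3]] (.cons 8 (.leaf [0, 1, 3] 1831) (.cons 12 (.leaf [0, 3] 256) (.cons 116 (.leaf [0] 8704)
  .nil)))) (.cons 196 (.leaf [0, 2] 7700) (.cons 204 (.leaf [0, 3] 5120) .nil)))))))))) (.cons 132
  (.leaf [0, 2] 4864) (.cons 136 (.leaf [0, 2] 3840) .nil)))))) (.cons 168 (.leaf [0, 1] 5408)
  (.cons 1024 (.leaf [0] 1536) (.cons 1192 (.leaf [0] 1788) .nil)))))))))) (.cons 20 (.node 1024
  1536 [] (.cons 8 (.node 236 4096 [[0, 1]] (.cons 16 (.node 92 1536 [[0, 1, 2]] (.cons 32 (.node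
  124 1280 [[0, 2, 3]] (.cons 124 (.leaf [0] 1280) (.cons 128 (.leaf [0, 4] 4864) (.cons 192 (.leaf
  [0, 4] 3584) .nil)))) (.cons 48 (.node 172 256 [[0, 2, 3]] (.cons 64 (.leaf [0, 1, 4] 7680) (.cons
  172 (.leaf [0] 256) (.cons 192 (.leaf [0, 4] 3584) .nil)))) (.cons 92 (.leaf [0] 1536) (.cons 128
  (.leaf [0, 3] 4864) (.cons 160 (.leaf [0, 1, 2] 5408) (.cons 176 (.leaf [0, 2] 5376) (.cons 192
  (.leaf [0, 3] 3584) (.cons 224 (.leaf [0, 2] 7168) (.cons 240 (.leaf [0, 2] 0) .nil))))))))))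
  (.cons 64 (.leaf [0, 1, 2] 1549) (.cons 80 (.leaf [0, 1] 1024) (.cons 128 (.leaf [0, 2] 4864)
  (.cons 144 (.leaf [0, 1] 3840) .nil)))))) (.cons 32 (.node 248 0 [[0, 1]] (.cons 4 (.node 116 8704
  [[0, 1, 2]] (.cons 8 (.node 124 1280 [[0, 2, 3]] (.cons 124 (.leaf [0] 1280) (.cons 128 (.leaf [0,
  4] 4864) (.cons 192 (.leaf [0, 4] 3584) .nil)))) (.cons 12 (.node 184 5376 [[0, 2, 3]] (.cons 64
  (.leaf [0, 1, 4] 1024) (.cons 184 (.leaf [0] 5376) (.cons 192 (.leaf [0, 4] 3584) .nil)))) (.cons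
  116 (.leaf [0] 8704) (.cons 128 (.leaf [0, 3] 4864) (.cons 136 (.leaf [0, 1, 2] 260) (.cons 140
  (.leaf [0, 2] 256) (.cons 192 (.leaf [0, 3] 3584) (.cons 200 (.leaf [0, 2] 7168) (.cons 204 (.leaf
  [0, 2] 4096) .nil)))))))))) (.cons 64 (.leaf [0, 1, 2] 8722) (.cons 68 (.leaf [0, 1] 7680) (.cons
  128 (.leaf [0, 2] 4864) (.cons 132 (.leaf [0, 1] 3072) .nil)))))) (.cons 40 (.node 124 1280 [[0,
  1]] (.cons 124 (.leaf [0] 1280) (.cons 128 (.leaf [0, 2] 4864) (.cons 192 (.leaf [0, 1] 7168)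
  .nil)))) (.cons 128 (.leaf [0, 1] 4864) (.cons 136 (.node 124 1280 [[0, 1], [0]] (.cons 16 (.leaf
  [0, 1] 3840) (.cons 128 (.leaf [0, 2] 4864) (.cons 144 (.node 92 1536 [[0, 1, 2], [1]] (.cons 32
  (.leaf [0, 1, 3] 3106) (.cons 48 (.leaf [0, 2] 5376) (.cons 128 (.leaf [0, 3] 4864) (.cons 160
  (.leaf [0, 1, 2] 5388) (.cons 176 (.leaf [0, 3] 3072) .nil)))))) .nil)))) (.cons 160 (.node 124
  1280 [[0, 1], [0]] (.cons 4 (.leaf [0, 1] 3072) (.cons 128 (.leaf [0, 2] 4864) (.cons 132 (.node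
  116 8704 [[0, 1, 2], [1]] (.cons 8 (.leaf [0, 1, 3] 3845) (.cons 12 (.leaf [0, 2] 256) (.cons 128
  (.leaf [0, 3] 4864) (.cons 136 (.leaf [0, 1, 2] 272) (.cons 140 (.leaf [0, 3] 3840) .nil))))))
  .nil)))) (.cons 168 (.leaf [0, 1] 8223) (.cons 1024 (.leaf [0] 1536) (.cons 1192 (.leaf [0] 1788)
  .nil)))))))))) (.cons 64 (.node 1024 1536 [] (.cons 8 (.node 5120 1280 [] (.cons 4 (.node 92 1536
  [[0, 1]] (.cons 32 (.leaf [0, 1, 3] 7680) (.cons 48 (.leaf [0, 1, 3] 8704) (.cons 92 (.leaf [0]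
  1536) (.cons 128 (.node 220 5120 [[0, 1, 2, 3]] (.cons 32 (.leaf [0, 1, 2] 3072) (.cons 48 (.leaf
  [0, 1, 3] 5376) (.cons 220 (.leaf [0] 5120) .nil)))) (.cons 160 (.leaf [0, 1] 3072) (.cons 176
  (.leaf [0, 2] 5376) (.cons 192 (.node 172 256 [[0, 1, 2, 3]] (.cons 16 (.leaf [0, 1, 2] 3584)
  (.cons 48 (.leaf [0, 1, 2] 4352) (.cons 172 (.leaf [0] 256) .nil)))) (.cons 224 (.leaf [0, 2]
  7168) (.cons 240 (.leaf [0, 1] 4352) .nil)))))))))) (.cons 32 (.leaf [0, 1, 2] 1792) (.cons 36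
  (.leaf [0, 2] 7680) (.cons 192 (.node 152 3840 [[0, 2]] (.cons 4 (.node 172 256 [[0, 1, 2, 3]]
  (.cons 16 (.leaf [0, 1, 2] 3584) (.cons 48 (.leaf [0, 1, 2] 4352) (.cons 172 (.leaf [0] 256)
  .nil)))) (.cons 12 (.node 148 4864 [[0, 1, 2, 3]] (.cons 32 (.leaf [0, 1, 2] 4096) (.cons 48
  (.leaf [0, 1, 4] 1280) (.cons 148 (.leaf [0] 4864) .nil)))) (.cons 32 (.leaf [0, 1, 2] 7168)
  (.cons 36 (.leaf [0, 3] 7680) (.cons 44 (.leaf [0, 1] 4096) (.cons 48 (.leaf [0, 1, 2] 0) (.cons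
  52 (.leaf [0, 1] 4352) (.cons 60 (.leaf [0, 3] 1280) (.cons 152 (.leaf [0] 3840) .nil))))))))))
  (.cons 196 (.node 172 256 [[0, 1, 2]] (.cons 16 (.leaf [0, 1] 3584) (.cons 48 (.leaf [0, 1] 4352)
  (.cons 172 (.leaf [0] 256) .nil)))) (.cons 224 (.leaf [0, 1] 7168) (.cons 228 (.leaf [0, 1] 4096)
  (.cons 5120 (.leaf [0] 1280) (.cons 5348 (.leaf [0] 1532) .nil)))))))))) (.cons 32 (.node 1280
  1792 [] (.cons 4 (.leaf [0, 1, 2] 7680) (.cons 48 (.node 88 1024 [[0, 1]] (.cons 4 (.leaf [0, 1,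
  3] 8704) (.cons 12 (.leaf [0, 1, 3] 1280) (.cons 88 (.leaf [0] 1024) (.cons 128 (.node 212 3584
  [[0, 1, 2, 3]] (.cons 8 (.leaf [0, 1, 2] 5376) (.cons 12 (.leaf [0, 1, 2] 8192) (.cons 212 (.leaf
  [0] 3584) .nil)))) (.cons 132 (.leaf [0, 2] 3072) (.cons 140 (.leaf [0, 1] 8192) (.cons 192 (.node
  148 4864 [[0, 1, 2, 3]] (.cons 8 (.leaf [0, 1, 2] 0) (.cons 12 (.leaf [0, 1, 3] 4096) (.cons 148
  (.leaf [0] 4864) .nil)))) (.cons 196 (.leaf [0, 1] 4352) (.cons 204 (.leaf [0, 2] 4096)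
  .nil)))))))))) (.cons 52 (.leaf [0, 2] 8704) (.cons 128 (.node 232 7168 [[0, 2]] (.cons 4 (.leaf
  [0, 1, 2] 3072) (.cons 12 (.leaf [0, 1, 2] 256) (.cons 16 (.node 244 4352 [[0, 1, 2, 3]] (.cons 8
  (.leaf [0, 1, 2] 3840) (.cons 12 (.leaf [0, 1, 4] 1536) (.cons 244 (.leaf [0] 4352) .nil))))
  (.cons 20 (.leaf [0, 1] 4864) (.cons 28 (.leaf [0, 3] 1536) (.cons 48 (.node 212 3584 [[0, 1, 2,
  3]] (.cons 8 (.leaf [0, 1, 2] 5376) (.cons 12 (.leaf [0, 1, 2] 8192) (.cons 212 (.leaf [0] 3584)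
  .nil)))) (.cons 52 (.leaf [0, 3] 8704) (.cons 60 (.leaf [0, 1] 8192) (.cons 232 (.leaf [0] 7168)
  .nil)))))))))) (.cons 132 (.leaf [0, 1] 3072) (.cons 176 (.node 212 3584 [[0, 1, 2]] (.cons 8
  (.leaf [0, 1] 5376) (.cons 12 (.leaf [0, 1] 8192) (.cons 212 (.leaf [0] 3584) .nil)))) (.cons 180
  (.leaf [0, 1] 4896) (.cons 1280 (.leaf [0] 1792) (.cons 1460 (.leaf [0] 2044) .nil))))))))))
  (.cons 40 (.leaf [0, 1] 1792) (.cons 128 (.node 212 3584 [[0, 1]] (.cons 8 (.node 232 7168 [[1,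
  2]] (.cons 4 (.node 220 5120 [[0, 1, 2, 3]] (.cons 32 (.leaf [0, 1, 3] 3072) (.cons 48 (.leaf [0,
  1, 4] 8704) (.cons 220 (.leaf [0] 5120) .nil)))) (.cons 12 (.node 212 3584 [[0, 1, 2, 3]] (.cons
  32 (.leaf [0, 1, 3] 256) (.cons 48 (.leaf [0, 1, 3] 8192) (.cons 212 (.leaf [0] 3584) .nil))))
  (.cons 16 (.leaf [0, 1, 2] 3840) (.cons 20 (.leaf [0, 2] 4864) (.cons 28 (.leaf [0, 3] 1536)
  (.cons 48 (.leaf [0, 1, 2] 5376) (.cons 52 (.leaf [0, 3] 8704) (.cons 60 (.leaf [0, 2] 8192)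
  (.cons 232 (.leaf [0] 7168) .nil)))))))))) (.cons 12 (.node 220 5120 [[1, 2]] (.cons 4 (.node 232
  7168 [[0, 1, 2, 3]] (.cons 16 (.leaf [0, 1, 3] 4864) (.cons 48 (.leaf [0, 1, 4] 8704) (.cons 232
  (.leaf [0] 7168) .nil)))) (.cons 8 (.node 212 3584 [[0, 1, 2, 3]] (.cons 32 (.leaf [0, 1, 4] 1792)
  (.cons 48 (.leaf [0, 1, 3] 5376) (.cons 212 (.leaf [0] 3584) .nil)))) (.cons 32 (.leaf [0, 1, 2]
  256) (.cons 36 (.leaf [0, 2] 3072) (.cons 40 (.leaf [0, 3] 1792) (.cons 48 (.leaf [0, 1, 2] 8192)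
  (.cons 52 (.leaf [0, 3] 8704) (.cons 56 (.leaf [0, 2] 5376) (.cons 220 (.leaf [0] 5120)
  .nil)))))))))) (.cons 32 (.node 232 7168 [[1, 2]] (.cons 4 (.leaf [0, 1, 2] 3072) (.cons 12 (.leaf
  [0, 1, 2] 256) (.cons 16 (.node 244 4352 [[0, 1, 2, 3]] (.cons 8 (.leaf [0, 1, 3] 3840) (.cons 12
  (.leaf [0, 1, 4] 1536) (.cons 244 (.leaf [0] 4352) .nil)))) (.cons 20 (.leaf [0, 2] 4864) (.cons
  28 (.leaf [0, 3] 1536) (.cons 48 (.node 212 3584 [[0, 1, 2, 3]] (.cons 8 (.leaf [0, 1, 3] 5376)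
  (.cons 12 (.leaf [0, 1, 3] 8192) (.cons 212 (.leaf [0] 3584) .nil)))) (.cons 52 (.leaf [0, 3]
  8704) (.cons 60 (.leaf [0, 2] 8192) (.cons 232 (.leaf [0] 7168) .nil)))))))))) (.cons 40 (.leaf
  [0, 2] 1792) (.cons 44 (.leaf [0, 1] 256) (.cons 48 (.node 244 4352 [[1, 2]] (.cons 8 (.leaf [0,
  1, 2] 5376) (.cons 12 (.leaf [0, 1, 2] 8192) (.cons 16 (.node 232 7168 [[0, 1, 2, 3]] (.cons 4
  (.leaf [0, 1, 3] 4864) (.cons 12 (.leaf [0, 1, 4] 1536) (.cons 232 (.leaf [0] 7168) .nil))))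
  (.cons 24 (.leaf [0, 2] 3840) (.cons 28 (.leaf [0, 3] 1536) (.cons 32 (.node 212 3584 [[0, 1, 2,
  3]] (.cons 8 (.leaf [0, 1, 4] 1792) (.cons 12 (.leaf [0, 1, 3] 256) (.cons 212 (.leaf [0] 3584)
  .nil)))) (.cons 40 (.leaf [0, 3] 1792) (.cons 44 (.leaf [0, 2] 256) (.cons 244 (.leaf [0] 4352)
  .nil)))))))))) (.cons 56 (.leaf [0, 1] 5376) (.cons 60 (.leaf [0, 1] 8192) (.cons 212 (.leaf [0]
  3584) .nil)))))))))) (.cons 136 (.node 244 4352 [[0, 1]] (.cons 8 (.node 232 7168 [[0, 1, 2]]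
  (.cons 4 (.node 220 5120 [[0, 2, 3]] (.cons 32 (.leaf [0, 1, 3] 256) (.cons 48 (.leaf [0, 3] 5376)
  (.cons 220 (.leaf [0] 5120) .nil)))) (.cons 12 (.node 212 3584 [[0, 2, 3]] (.cons 32 (.leaf [0, 1,
  3] 3085) (.cons 48 (.leaf [0, 3] 5376) (.cons 212 (.leaf [0] 3584) .nil)))) (.cons 16 (.leaf [0,
  2] 3840) (.cons 20 (.leaf [0, 1, 2] 4868) (.cons 28 (.leaf [0, 2] 4868) (.cons 48 (.leaf [0, 2]
  5376) (.cons 52 (.leaf [0, 2] 8192) (.cons 60 (.leaf [0, 3] 1280) (.cons 232 (.leaf [0] 7168)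
  .nil)))))))))) (.cons 16 (.leaf [0, 1] 3840) (.cons 24 (.leaf [0, 2] 1024) (.cons 32 (.leaf [0, 1,
  2] 7196) (.cons 40 (.leaf [0, 2] 1792) .nil)))))) (.cons 160 (.node 220 5120 [[0, 1]] (.cons 4
  (.leaf [0, 1] 3072) (.cons 8 (.leaf [0, 1, 2] 7196) (.cons 32 (.node 232 7168 [[0, 1, 2]] (.cons 4
  (.leaf [0, 2] 3072) (.cons 12 (.leaf [0, 2] 256) (.cons 16 (.node 244 4352 [[0, 2, 3]] (.cons 8
  (.leaf [0, 1, 3] 5376) (.cons 12 (.leaf [0, 3] 256) (.cons 244 (.leaf [0] 4352) .nil)))) (.cons 20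
  (.leaf [0, 1, 2] 4896) (.cons 28 (.leaf [0, 2] 8192) (.cons 48 (.node 212 3584 [[0, 2, 3]] (.cons
  8 (.leaf [0, 1, 3] 3858) (.cons 12 (.leaf [0, 3] 256) (.cons 212 (.leaf [0] 3584) .nil)))) (.cons
  52 (.leaf [0, 2] 4896) (.cons 60 (.leaf [0, 3] 1280) (.cons 232 (.leaf [0] 7168) .nil))))))))))
  (.cons 36 (.leaf [0, 2] 7680) (.cons 40 (.leaf [0, 2] 1792) .nil)))))) (.cons 168 (.leaf [0, 1]
  7196) (.cons 1024 (.leaf [0] 1536) (.cons 1192 (.leaf [0] 1788) .nil)))))))))) (.cons 68 (.node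
  1024 1536 [] (.cons 8 (.node 188 8192 [[0, 1]] (.cons 16 (.leaf [0, 1, 2] 1549) (.cons 32 (.leaf
  [0, 2] 7680) (.cons 64 (.node 92 1536 [[0, 1, 2]] (.cons 32 (.leaf [0, 3] 7680) (.cons 48 (.leaf
  [0, 3] 8704) (.cons 92 (.leaf [0] 1536) (.cons 128 (.node 220 5120 [[0, 2, 3]] (.cons 32 (.leaf
  [0, 4] 7680) (.cons 48 (.leaf [0, 4] 8704) (.cons 220 (.leaf [0] 5120) .nil)))) (.cons 160 (.leaf
  [0, 1, 2] 7196) (.cons 176 (.leaf [0, 2] 5376) (.cons 192 (.node 172 256 [[0, 2, 3]] (.cons 16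
  (.leaf [0, 1, 4] 4864) (.cons 48 (.leaf [0, 4] 8704) (.cons 172 (.leaf [0] 256) .nil)))) (.cons
  224 (.leaf [0, 2] 7168) (.cons 240 (.leaf [0, 2] 0) .nil)))))))))) (.cons 80 (.leaf [0, 1] 1024)
  (.cons 96 (.leaf [0, 1] 1792) .nil)))))) (.cons 32 (.leaf [0, 1] 7680) (.cons 40 (.node 188 8192
  [[0, 1], [0]] (.cons 32 (.leaf [0, 2] 7680) (.cons 64 (.leaf [0, 1] 1792) (.cons 96 (.node 92 1536
  [[0, 1, 2], [1]] (.cons 32 (.leaf [0, 3] 7680) (.cons 128 (.leaf [0, 1, 3] 3119) (.cons 160 (.leaf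
  [0, 1, 2] 7180) (.cons 192 (.leaf [0, 2] 7168) (.cons 224 (.leaf [0, 3] 3072) .nil)))))) .nil))))
  (.cons 128 (.node 248 0 [[0, 1]] (.cons 4 (.node 212 3584 [[0, 1, 2]] (.cons 8 (.node 220 5120
  [[0, 2, 3]] (.cons 32 (.leaf [0, 4] 7680) (.cons 48 (.leaf [0, 4] 8704) (.cons 220 (.leaf [0]
  5120) .nil)))) (.cons 12 (.node 232 7168 [[0, 2, 3]] (.cons 16 (.leaf [0, 1, 4] 1024) (.cons 48
  (.leaf [0, 4] 8704) (.cons 232 (.leaf [0] 7168) .nil)))) (.cons 32 (.leaf [0, 3] 7680) (.cons 40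
  (.leaf [0, 1, 2] 260) (.cons 44 (.leaf [0, 2] 256) (.cons 48 (.leaf [0, 3] 8704) (.cons 56 (.leaf
  [0, 2] 5376) (.cons 60 (.leaf [0, 2] 8192) (.cons 212 (.leaf [0] 3584) .nil)))))))))) (.cons 16
  (.leaf [0, 1, 2] 3615) (.cons 20 (.leaf [0, 1] 4864) (.cons 32 (.leaf [0, 2] 7680) (.cons 36
  (.leaf [0, 1] 3072) .nil)))))) (.cons 136 (.node 220 5120 [[0, 1]] (.cons 32 (.leaf [0, 2] 7680)
  (.cons 48 (.leaf [0, 1] 5376) (.cons 220 (.leaf [0] 5120) .nil)))) (.cons 160 (.node 220 5120 [[0,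
  1], [0]] (.cons 4 (.leaf [0, 1] 3072) (.cons 32 (.leaf [0, 2] 7680) (.cons 36 (.node 100 7680 [[1,
  2]] (.cons 152 (.leaf [0] 3840) (.cons 156 (.leaf [0, 1] 5376) (.cons 184 (.leaf [0] 5376) (.cons
  188 (.leaf [0] 8192) (.cons 192 (.leaf [0, 1, 3, 2] 0) .nil)))))) .nil)))) (.cons 168 (.leaf [0,
  1] 4130) (.cons 1024 (.leaf [0] 1536) (.cons 1192 (.leaf [0] 1788) .nil)))))))))) (.cons 80 (.node
  1024 1536 [] (.cons 8 (.leaf [0, 1] 1024) (.cons 32 (.node 188 8192 [[0, 1]] (.cons 4 (.leaf [0,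
  1, 2] 8722) (.cons 8 (.leaf [0, 2] 1024) (.cons 64 (.node 116 8704 [[0, 1, 2]] (.cons 8 (.leaf [0,
  3] 1024) (.cons 12 (.leaf [0, 3] 1536) (.cons 116 (.leaf [0] 8704) (.cons 128 (.node 244 4352 [[0,
  2, 3]] (.cons 8 (.leaf [0, 4] 1024) (.cons 12 (.leaf [0, 4] 1536) (.cons 244 (.leaf [0] 4352)
  .nil)))) (.cons 136 (.leaf [0, 1, 2] 7196) (.cons 140 (.leaf [0, 2] 256) (.cons 192 (.node 184
  5376 [[0, 2, 3]] (.cons 4 (.leaf [0, 1, 4] 4864) (.cons 12 (.leaf [0, 4] 1536) (.cons 184 (.leaf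
  [0] 5376) .nil)))) (.cons 200 (.leaf [0, 2] 7168) (.cons 204 (.leaf [0, 2] 4096) .nil))))))))))
  (.cons 68 (.leaf [0, 1] 7680) (.cons 72 (.leaf [0, 1] 1792) .nil)))))) (.cons 40 (.node 188 8192
  [[0, 1], [0]] (.cons 8 (.leaf [0, 2] 1024) (.cons 64 (.leaf [0, 1] 1792) (.cons 72 (.node 88 1024
  [[1, 2]] (.cons 48 (.leaf [0, 1, 3, 2] 0) (.cons 164 (.leaf [0] 3072) (.cons 172 (.leaf [0] 256)
  (.cons 228 (.leaf [0, 1] 256) (.cons 236 (.leaf [0] 4096) .nil)))))) .nil)))) (.cons 128 (.node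
  236 4096 [[0, 1]] (.cons 4 (.leaf [0, 1, 2] 3615) (.cons 8 (.leaf [0, 2] 1024) (.cons 16 (.node
  212 3584 [[0, 1, 2]] (.cons 8 (.leaf [0, 3] 1024) (.cons 12 (.leaf [0, 3] 1536) (.cons 32 (.node
  244 4352 [[0, 2, 3]] (.cons 8 (.leaf [0, 4] 1024) (.cons 12 (.leaf [0, 4] 1536) (.cons 244 (.leaf
  [0] 4352) .nil)))) (.cons 40 (.leaf [0, 1, 2] 5408) (.cons 44 (.leaf [0, 2] 256) (.cons 48 (.node
  232 7168 [[0, 2, 3]] (.cons 4 (.leaf [0, 1, 4] 7680) (.cons 12 (.leaf [0, 4] 1536) (.cons 232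
  (.leaf [0] 7168) .nil)))) (.cons 56 (.leaf [0, 2] 5376) (.cons 60 (.leaf [0, 2] 8192) (.cons 212
  (.leaf [0] 3584) .nil)))))))))) (.cons 20 (.leaf [0, 1] 4864) (.cons 24 (.leaf [0, 1] 3840)
  .nil)))))) (.cons 136 (.node 236 4096 [[0, 1], [0]] (.cons 8 (.leaf [0, 2] 1024) (.cons 16 (.leaf
  [0, 1] 3840) (.cons 24 (.node 88 1024 [[1, 2]] (.cons 164 (.leaf [0] 3072) (.cons 172 (.leaf [0]
  256) (.cons 180 (.leaf [0, 1] 256) (.cons 188 (.leaf [0] 8192) (.cons 192 (.leaf [0, 1, 3, 2] 0)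
  .nil)))))) .nil)))) (.cons 160 (.node 244 4352 [[0, 1]] (.cons 8 (.leaf [0, 2] 1024) (.cons 12
  (.leaf [0, 1] 256) (.cons 244 (.leaf [0] 4352) .nil)))) (.cons 168 (.leaf [0, 1] 5) (.cons 1024
  (.leaf [0] 1536) (.cons 1192 (.leaf [0] 1788) .nil)))))))))) (.cons 84 (.node 1024 1536 [] (.cons
  8 (.leaf [0, 1] 1549) (.cons 32 (.leaf [0, 1] 8722) (.cons 40 (.leaf [0, 1] 1316) (.cons 128
  (.leaf [0, 1] 3615) (.cons 136 (.leaf [0, 1] 5152) (.cons 160 (.leaf [0, 1] 4356) (.cons 168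
  (.node 1280 1792 [] (.cons 4 (.leaf [0, 1] 256) (.cons 48 (.leaf [0, 1] 3858) (.cons 52 (.node 88
  1024 [[0, 1, 2], [0]] (.cons 48 (.leaf [0, 2] 3858) (.cons 192 (.leaf [0, 1] 4352) (.cons 240
  (.leaf [0, 2] 1036) .nil)))) (.cons 128 (.leaf [0, 2] 3615) (.cons 132 (.node 88 1024 [[1, 2],
  [0]] (.cons 48 (.leaf [0, 2] 3858) (.cons 164 (.leaf [0] 3072) .nil))) (.cons 176 (.node 88 1024
  [[1, 2], [0]] (.cons 12 (.leaf [0, 1] 8192) (.cons 48 (.leaf [0, 2] 3858) (.cons 60 (.leaf [0, 2]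
  4900) .nil)))) (.cons 180 (.node 88 1024 [[0, 1, 2]] (.cons 32 (.leaf [0, 1] 4864) (.cons 48
  (.leaf [0, 2] 3858) (.cons 88 (.leaf [0] 1024) .nil)))) (.cons 1280 (.leaf [0] 1792) (.cons 1460
  (.leaf [0] 2044) .nil)))))))))) (.cons 1024 (.leaf [0] 1536) (.cons 1192 (.leaf [0] 1788)
  .nil)))))))))) (.cons 256 (.leaf [0] 0) (.cons 340 (.leaf [0] 168) .nil)))))))))

theorem ck_tree : ck tree 1 [z, b] [z, b] = true := by decide +kernel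

abbrev Ct (k : B) : Prop := lk16 tcl k * k * (lk16 tcl k)⁻¹ ∈ (es [2, 84, 512] : List B)

abbrev Et (k : B) : Prop := lk16 tcl k * k * (lk16 tcl k)⁻¹ ∈ (es [88, 256, 768, 774] : List B)

noncomputable def VB : Subgroup B := sub 15 (BD.of (by decide +kernel))

noncomputable def QB : Subgroup B := subOf (·.v < 256) (BD.of (by decide +kernel))
  fun a c ha => (BD.of (by decide +kernel) :
    ∀ a : B, a.v < 256 → ∀ c : B, c.v < 256 → (a * c).v < 256) a ha c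

theorem fG : (∀ k : B, (Mem 15 k → (k = 1 ∨ k = z ∨ k = b ∨ k = z * b) ∧
        ∀ a ∈ [e', Co3T.i], ∃ β ∈ (es [0, 4, 16, 20] : List B), Commute β b ∧ β * a * β⁻¹ = a * k) ∧
      (k⁻¹ * b * k = b ∨ k⁻¹ * b * k = z * b) ∧ (∀ v ∈ [1, z, b, z * b], Mem 15 (k * v * k⁻¹)) ∧
      (Commute k b → Mem 15 (k * k) → Mem 15 k ∨ ∃ s ∈ LK, Mem 15 (s⁻¹ * k)) ∧
      (Commute k e' → Commute k k0 → Mem mO ((e 8210)⁻¹ * k * e 8210 : B)) ∧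
      (Mem mO k → Mem mO (uh k) ∧ uh (uh k) = k) ∧
      (k.v < 1024 → k * k = 1 → Commute k e' → k = 1 ∨ Et k ∨ Et (e' * k))) ∧
    (∀ p ∈ ([(84, 32, 512, 2), (512, 32, 1280, 84), (256, 32, 8210, 248), (768, 32, 1024, 248),
      (774, 32, 1567, 248)] : List (ℕ × ℕ × ℕ × ℕ)), Mem mO (e p.2.1 * e p.1 * (e p.2.1)⁻¹ : B) ∧
        e p.2.2.1 * uh (e p.2.1 * e p.1 * (e p.2.1)⁻¹) * (e p.2.2.1)⁻¹ = e p.2.2.2) ∧
    ((e 1024 : B) * e 88 * (e 1024)⁻¹ = e' ∧ (e 248 : B) = e' ∧ (e 2 : B) = b ∧ (e 256 : B) = Co3T.i) ∧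
    (Mem mO z ∧ uh z = z ∧ Mem mO (e 32 * b * (e 32)⁻¹ : B) ∧
      e 8210 * uh (e 32 * b * (e 32)⁻¹) * (e 8210)⁻¹ = k0) ∧
    (z * z = 1 ∧ b * b = 1 ∧ z ≠ 1 ∧ b ≠ 1 ∧ e' * e' = 1 ∧ Co3T.i * Co3T.i = 1 ∧
      Co3T.r * b * Co3T.r⁻¹ = z * b ∧ e' ≠ 1 ∧ b ≠ z) ∧
    (e' = e 168 * e 180 * e 230 ∧
      ∀ a ∈ (es [168, 180, 230] : List B), a * a = 1 ∧ Commute a b ∧ Ct a) :=
  BD.of (by decide +kernel)

theorem fG2 : ∀ k : B, k * k = 1 → Commute k b → (k.v < 256 ∧ (k = 1 ∨ k = z ∨ Ct k ∨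
    ∃ a ∈ (es [0, 1536, 1792, 3072, 3584, 3840, 4096, 8192, 8704, 256, 4352, 5120, 1024, 5376, 1280,
      4864, 7680, 7168] : List B), ∃ q ∈ (es [0, 4, 16, 20] : List B),
      Commute (q * a) b ∧ q * a * k * (q * a)⁻¹ = e')) ∨
    (¬ k.v < 256 ∧ ∃ a ∈ (es [0, 1536, 1792, 3072, 3584, 3840, 4096, 8192, 8704] : List B),
      ∃ q ∈ (es [0, 4, 8, 12, 16, 20, 24, 28, 32, 36, 40, 44, 48, 52, 56, 60, 128, 132, 136, 140, 144,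
        148, 152, 156, 160, 164, 168, 172, 176, 180, 184, 188] : List B),
        q * a * k * (q * a)⁻¹ = Co3T.i) :=
  BD.of (by decide +kernel)

end Cfsg.Agent.Y12
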