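import Cfsg.Agent.Y12.GF
import Cfsg.Agent.Co3T.Fus

/-! The centraliser of the four-group `⟨z, b⟩`. -/

set_option autoImplicit false
set_option maxRecDepth 100000
set_option synthInstance.maxHeartbeats 400000
set_option synthInstance.maxSize 4000

namespace Cfsg.Agent.Y12

open Subgroup Cfsg.Agent.Comp Cfsg.Agent.X32 Cfsg.Agent.X32.TG Cfsg.Agent.LES Cfsg.Agent.He5
open Cfsg.Agent.Co3T (B z b lk16 tcl)

variable {G : Type*} [Group G] {χ : B →* G} {u : G}

/-- conjugacy inside the subgroup generated by `B` and `u` -/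
def KC (χ : B →* G) (u : G) (a c : B) : Prop := ∃ m ∈ χ.range ⊔ zpowers u, m * χ a * m⁻¹ = χ c

theorem mχ (k : B) : χ k ∈ χ.range ⊔ zpowers u := mem_sup_left ⟨k, rfl⟩

theorem KC.of {β a c : B} (h : β * a * β⁻¹ = c) : KC χ u a c :=
  ⟨χ β, mχ β, by rw [← h, map_mul, map_mul, map_inv]⟩

theorem KC.trans {a c d : B} (h : KC χ u a c) (h' : KC χ u c d) : KC χ u a d := by
  obtain ⟨m, hm, e⟩ := h
  obtain ⟨n, hn, e'⟩ := h'
  exact ⟨n * m, mul_mem hn hm, by rw [← e', ← e]; group⟩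

theorem KC.conj {a c : B} (h : KC χ u a c) : IsConj (χ a) (χ c) :=
  h.elim fun m hm => isConj_iff.2 ⟨m, hm.2⟩

theorem cz (k : B) : Commute (χ k) (χ z) := Co3T.GD.comm_z k

theorem cV {c : G} (h1 : Commute c (χ z)) (h2 : Commute c (χ b)) {v : B} (hv : Mem 15 v) :
    Commute c (χ v) := by
  rcases ((fG.1 v).1 hv).1 with rfl | rfl | rfl | rfl
  exacts [by simp, h1, h2, by simpa using h1.mul_right h2]

/-- elements whose centraliser modulo the four-group is known -/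
def Sg (χ : B →* G) (k : B) : Prop := ∀ c, Commute c (χ z) → Commute c (χ b) → ∀ v, Mem 15 v →
  c * χ k * c⁻¹ = χ (k * v) → c ∈ χ.range

namespace IB
variable (H : IB χ u)
include H

theorem uz : Commute u (χ z) := X32.comm_of_conj (by rw [H.ua _ fG.2.2.2.1.1, fG.2.2.2.1.2.1])

theorem K_le : χ.range ⊔ zpowers u ≤ centralizer {χ z} :=
  sup_le (by rintro _ ⟨k, rfl⟩; exact mem_cent.2 (cz k)) (zpowers_le.2 (mem_cent.2 H.uz))

theorem path {a β β' c : B} (h : Mem mO (β * a * β⁻¹) ∧ β' * uh (β * a * β⁻¹) * β'⁻¹ = c) :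
    χ β' * u * χ β * χ a * (χ β' * u * χ β)⁻¹ = χ c := by
  rw [← h.2, map_mul, map_mul, map_inv, ← H.ua _ h.1, map_mul, map_mul, map_inv]; group

theorem path' {a β β' c : B} (h : Mem mO (β * a * β⁻¹) ∧ β' * uh (β * a * β⁻¹) * β'⁻¹ = c) :
    KC χ u a c := ⟨_, mul_mem (mul_mem (mχ _) (mem_sup_right (mem_zpowers u))) (mχ _), H.path h⟩

theorem kc : (∀ k, Ct k → KC χ u k b) ∧ ∀ k, Et k → KC χ u k e' := by
  obtain ⟨-, p, ⟨a1, a2, a3, -⟩, -⟩ := fG
  simp only [List.forall_mem_cons, a2, a3] at p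
  obtain ⟨p1, p2, p3, p4, p5, -⟩ := p
  refine ⟨fun k hk => (KC.of (β := lk16 tcl k) rfl).trans ?_,
    fun k hk => (KC.of (β := lk16 tcl k) rfl).trans ?_⟩ <;>
  simp only [Ct, Et, es, List.map, List.mem_cons, List.not_mem_nil, or_false] at hk
  · rcases hk with h | h | h <;> rw [h]
    exacts [.of (β := 1) (by simp [a3]), H.path' p1, (H.path' p2).trans (H.path' p1)]
  · rcases hk with h | h | h | h <;> rw [h]
    exacts [.of a1, H.path' p3, H.path' p4, H.path' p5]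

theorem nC {k : B} (h : Ct k) : ¬ IsConj (χ e') (χ k) := fun c =>
  H.ez (c.trans ((H.kc.1 k h).conj.trans H.zb.symm))

theorem ci {c : G} (h1 : Commute c (χ Co3T.i)) (h2 : Commute c (χ z)) (h3 : Commute c (χ b)) :
    c ∈ χ.range := by
  obtain ⟨f, p, ⟨-, a2, -, a4⟩, ⟨-, -, a5⟩, -⟩ := fG
  have p3 := H.path (p (256, 32, 8210, 248) (by simp))
  have p4 := H.path a5
  rw [a2, a4] at p3
  have c1 := p3 ▸ cj_comm _ h1
  have c2 := p4 ▸ cj_comm _ h3
  obtain ⟨s, hs⟩ := H.c3 _ c1 (by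
    have := ((cz (χ := χ) (e 8210)).mul_left H.uz).mul_left (cz (e 32))
    exact (this.mul_left h2).mul_left this.inv_left) (.inr c2)
  rw [← hs, comm_iff H.inj] at c1 c2
  have d := (f s).2.2.2.2.1 c1 c2
  have d' := H.ua _ ((f _).2.2.2.2.2.1 d).1
  rw [((f _).2.2.2.2.2.1 d).2, map_mul, map_mul, map_inv, hs] at d'
  refine ⟨(e 32)⁻¹ * uh ((e 8210)⁻¹ * s * e 8210) * e 32, ?_⟩
  rw [map_mul, map_mul, map_inv, ← mul_left_inj (χ (e 32))⁻¹, ← mul_right_inj (χ (e 32)),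
    ← mul_left_inj u⁻¹, ← mul_right_inj u]
  calc _ = u * χ (uh ((e 8210)⁻¹ * s * e 8210)) * u⁻¹ := by group
    _ = _ := by rw [d']; group

theorem es {β k : B} (h : Es β k) : Sg χ k ∧ IsConj (χ k) (χ e') ∧ k * k = 1 := by
  obtain ⟨f, p, ⟨-, a2, -, a4⟩, -, ⟨-, -, -, -, a5, a6, -⟩, -⟩ := fG
  have s0 : ∀ a ∈ [e', Co3T.i], Sg χ a := fun a ha c h1 h2 v hv e => by
    obtain ⟨γ, -, d1, d2⟩ := ((f v).1 hv).2 a ha
    have c1 : Commute ((χ γ)⁻¹ * c) (χ a) := X32.comm_of_conj (by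
      rw [mul_inv_rev, mul_assoc, mul_assoc, ← mul_assoc (χ a), ← mul_assoc c, ← mul_assoc c, e, ← d2]
      simp [mul_assoc])
    have c2 := (cz (χ := χ) γ).inv_left.mul_left h1
    have c3 := (d1.map χ).inv_left.mul_left h2
    refine (χ.range.mul_mem_cancel_left (inv_mem ⟨γ, rfl⟩)).1 ?_
    simp only [List.mem_cons, List.not_mem_nil, or_false] at ha
    rcases ha with rfl | rfl
    exacts [H.c3 _ c1 c2 (.inl c3), H.ci c1 c2 c3]
  refine ⟨fun c h1 h2 v hv e => ?_, h.elim (fun h => (KC.of (u := u) h).conj) fun h =>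
    ((KC.of h).trans (a2 ▸ a4 ▸ H.path' (p (256, 32, 8210, 248) (by simp)))).conj, ?_⟩
  · have := s0 _ (by simpa using h) (χ β * c * (χ β)⁻¹)
      (((cz β).mul_left h1).mul_left (cz β).inv_left) (by
        have : Commute c (χ (β⁻¹ * b * β)) := by
          rcases (f β).2.1 with h | h <;> rw [h]
          exacts [h2, by simpa using h1.mul_right h2]
        simpa [mul_assoc] using cj_comm (χ β) this) _
      ((f β).2.2.1 v (by simpa using ((f v).1 hv).1)) (by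
        simp only [map_mul, map_inv] at e ⊢
        calc _ = χ β * (c * χ k * c⁻¹) * (χ β)⁻¹ := by group
          _ = _ := by rw [e]; group)
    exact (χ.range.mul_mem_cancel_left ⟨β, rfl⟩).1 ((χ.range.mul_mem_cancel_right (inv_mem ⟨β, rfl⟩)).1 this)
  · refine cj_inj (g := β) ?_
    rw [← cj_sq]
    rcases h with h | h <;> simp [h, a5, a6]

variable [Finite G]

theorem sound {w : G} (w2 : w * w = 1) (h1 : Commute w (χ z)) (h2 : Commute w (χ b))
    (hne : ∀ v, Mem 15 v → ¬ IsConj (χ e') (χ v * w)) (t : Tr) : ∀ s l l', ck t s l l' = true →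
    Cj χ w l l' → w * χ s * w⁻¹ = χ s⁻¹ → w ∈ χ.range := by
  induction t with
  | leaf W β =>
    intro s l l' h c _
    dsimp only [ck] at h
    rcases (bd_iff _).1 h with ⟨a, a'⟩ | ⟨a, a'⟩
    · exact absurd (H.inj (by rw [← c.ev, a]; simp)) a'
    · exact (H.es a).1 w h1 h2 _ a' (by rw [c.ev]; simp)
  | node d β ws ch ih =>
    intro s l l' h c _
    obtain ⟨a, a'⟩ := (and'_eq_true _ _).1 h
    obtain ⟨a1, a2, a3⟩ := (bd_iff _).1 a
    obtain ⟨b1, b2, b3⟩ := H.es a1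
    obtain ⟨x, x1, x2, x3, x4, x5⟩ := dih (VB.map χ) w2 (Setup.sq (φ := χ) b3) (by
      rintro g _ ⟨v, hv, rfl⟩ e
      exact hne v hv (b2.symm.trans (isConj_iff.2 ⟨g, e⟩)))
    have c1 := x5 _ (by rw [conj_of_comm h1, conj_of_comm (cz _)])
    have c2 := x5 _ (by rw [conj_of_comm h2, conj_of_comm (a2.map χ)])
    obtain ⟨v, hv, ev⟩ := x2
    obtain ⟨s0, rfl⟩ := b1 x c1 c2 v hv (by
      rw [map_mul, (cV (cz _) (a2.map χ) hv).eq, ev]
      calc _ = x * (χ (e d) * x * (χ (e d))⁻¹)⁻¹ * χ (e d) := by group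
        _ = _ := by rw [x4, inv_inv])
    obtain ⟨s1, m1, m2⟩ := ((fG.1 s0).2.2.2.1 ((comm_iff H.inj).1 c2)
      ((H.inj (ev.trans (map_mul χ _ _).symm) : v = s0 * s0) ▸ hv)).resolve_left fun h => x1 ⟨_, h, rfl⟩
    have key : ∀ c, Commute c (χ z) → Commute c (χ b) → c * χ s0 * c⁻¹ = (χ s0)⁻¹ →
        c * χ s1 * c⁻¹ = χ s1⁻¹ := fun c d1 d2 d3 => by
      have e1 : χ s1 = χ s0 * (χ (s1⁻¹ * s0))⁻¹ := by simp
      have e2 : χ (s1⁻¹ * s0) * χ (s1⁻¹ * s0) = 1 := Setup.sq (by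
        rcases ((fG.1 _).1 m2).1 with h | h | h | h <;> rw [h] <;> exact BD.of (by decide +kernel))
      rw [map_inv, e1, mul_inv_rev, inv_inv, inv_self e2, ← mul_assoc, mul_assoc _ _ c⁻¹,
        ← (cV d1 d2 m2).inv_left.eq, ← mul_assoc, d3, (cV c1 c2 m2).inv_left.eq]
    rcases (or'_eq_true _ _).1 ((allL_iff _ _).1 a' s1 m1) with h | h
    · refine absurd ((bd_iff _).2 ⟨H.inj (by simpa using key _ (cz _) (a2.map χ) x4),
        fun W hW => (comm_iff H.inj).1 ?_⟩) ((not'_eq_true _).1 h)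
      have := (x5 _ (by rw [c.ev W, ← (a3 W hW).2, map_mul, map_mul, map_inv])).mul_left
        (cV (cz _) ((a3 W hW).1.map χ) m2).symm.inv_left
      simpa using this
    · exact ih s1 l l' h c (key w h1 h2 x3)
  | nil => intro s l l' h; exact absurd h Bool.false_ne_true
  | cons s t r ih1 ih2 =>
    intro s' l l' h c e
    rcases (or'_eq_true _ _).1 h with h | h
    exacts [ih1 _ _ _ ((and'_eq_true _ _).1 h).2 (.cons e c) e, ih2 _ _ _ h c e]

omit [Finite G] in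
theorem cv {a w : G} (ha : IsConj (χ e') a) (hw : IsConj (χ z) w) (h : Commute w a) :
    IsConj (χ e') (a * w) := by
  obtain ⟨f, -, -, -, ⟨z2, -, z1, -⟩, -⟩ := fG
  obtain ⟨g, rfl⟩ := isConj_iff.1 ha
  obtain ⟨w, rfl⟩ := (MulAut.conj g).surjective w
  have c : Commute w (χ e') := (comm_iff (φ := (MulAut.conj g).toMonoidHom) (MulAut.conj g).injective).1 h
  have hw' : IsConj (χ z) w := hw.trans (isConj_iff.2 ⟨g, rfl⟩).symm
  obtain ⟨n, rfl⟩ := isConj_iff.1 hw'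
  have w2 := conj_sq (g := n) (Setup.sq (φ := χ) z2)
  obtain ⟨m, hm, k, hk, e⟩ := H.se _ c w2
  have c' := cj_comm m c
  rw [e, conj_of_comm hm, comm_iff H.inj] at c'
  rcases (f k).2.2.2.2.2.2 hk (H.inj (by rw [map_mul, ← e, conj_sq w2, map_one])) c' with rfl | h | h
  · exact absurd (H.inj (by simpa using e : χ z = χ 1)) z1
  · exact absurd ((H.kc.2 k h).conj.symm.trans (hw'.trans (isConj_iff.2 ⟨m, e⟩)).symm) H.ez
  · refine (H.kc.2 _ h).conj.symm.trans (isConj_iff.2 ⟨g * m⁻¹, ?_⟩)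
    rw [map_mul, ← e, MulAut.conj_apply]; nth_rewrite 1 [← conj_of_comm hm]; group

theorem inv_mem' {w : G} (w2 : w * w = 1) (h1 : Commute w (χ z)) (h2 : Commute w (χ b))
    (hne : ¬ IsConj (χ e') w) : w ∈ χ.range := by
  obtain ⟨f, -, -, -, ⟨z2, b2, -, -, -, -, a, -⟩, -⟩ := fG
  refine H.sound w2 h1 h2 (fun v hv c => hne ?_) tree 1 _ _ ck_tree
    (.cons (conj_of_comm h1) (.cons (conj_of_comm h2) (.nil _))) (by simp)
  have key : IsConj (χ z) (χ v) → v * v = 1 → IsConj (χ e') w := fun d d' => by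
    have := H.cv c d ((Commute.refl _).mul_right (cV h1 h2 hv).symm)
    rwa [mul_assoc, (cV h1 h2 hv).eq, ← mul_assoc, ← map_mul, d', map_one, one_mul] at this
  rcases ((f v).1 hv).1 with rfl | rfl | rfl | rfl
  · simpa using c
  · exact key (IsConj.refl _) z2
  · exact key H.zb b2
  · exact key (H.zb.trans (KC.of (u := u) a).conj) (BD.of (by decide +kernel))

theorem cb {c : G} (h1 : Commute c (χ z)) (h2 : Commute c (χ b)) : c ∈ χ.range := by
  obtain ⟨f, -, -, -, ⟨-, -, -, -, e2, -, -, e1, -⟩, a1, a2⟩ := fG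
  have key : ∀ a ∈ (TG.es [168, 180, 230] : List B), c * χ a * c⁻¹ ∈ QB.map χ := fun a ha => by
    obtain ⟨d1, d2, d3⟩ := a2 a ha
    have d4 := conj_sq (g := c) (Setup.sq (φ := χ) d1)
    have d5 := (h2.mul_left (d2.map χ)).mul_left h2.inv_left
    have d6 : ¬ IsConj (χ e') (c * χ a * c⁻¹) := fun h =>
      H.nC d3 (h.trans (isConj_iff.2 ⟨c, rfl⟩).symm)
    obtain ⟨k, hk⟩ := H.inv_mem' d4 ((h1.mul_left (cz a)).mul_left h1.inv_left) d5 d6
    rw [← hk] at d4 d5 d6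
    rcases fG2 k (H.inj (by simpa using d4)) ((comm_iff H.inj).1 d5) with h | ⟨-, x, -, q, -, h⟩
    · exact ⟨k, h.1, hk⟩
    · exact absurd (H.es (.inr h)).2.1.symm d6
  obtain ⟨k, hk, ek⟩ := mul_mem (mul_mem (key (e 168) (by simp [TG.es])) (key (e 180) (by simp [TG.es])))
    (key (e 230) (by simp [TG.es]))
  replace ek : χ k = c * χ e' * c⁻¹ := by rw [ek, a1, map_mul, map_mul]; group
  have d : IsConj (χ e') (χ k) := isConj_iff.2 ⟨c, ek.symm⟩
  have ceb : Commute e' b := BD.of (by decide +kernel)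
  rcases fG2 k (H.inj (by rw [map_mul, ek, conj_sq (Setup.sq e2), map_one])) ((comm_iff H.inj).1
    (ek ▸ (h2.mul_left (ceb.map χ)).mul_left h2.inv_left)) with
    ⟨-, rfl | rfl | h | ⟨x, -, q, -, h, h'⟩⟩ | h
  · exact absurd (H.inj (by simpa using d : χ e' = χ 1)) e1
  · exact absurd d H.ez
  · exact absurd d (H.nC h)
  · refine (χ.range.mul_mem_cancel_left ⟨q * x, rfl⟩).1 (H.c3 _ (X32.comm_of_conj ?_)
      ((cz _).mul_left h1) (.inl ((h.map χ).mul_left h2)))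
    nth_rewrite 2 [← h']
    rw [map_mul χ _ (q * x)⁻¹, map_mul χ (q * x), map_inv, ek]; group
  · exact absurd hk h.1

end IB

end Cfsg.Agent.Y12
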