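import Cfsg.Agent.X32.Frame4
import Cfsg.Agent.Co3T.TabSD
import Cfsg.Agent.Transfer.ThompsonExtremal

/-! General lemmas: dihedral groups modulo a subgroup, graphs of partial homomorphisms,
induction over tables, small facts on 2-subgroups. -/

set_option autoImplicit false

namespace Cfsg.Agent.Y12

open Subgroup Cfsg.Agent.Comp Cfsg.Agent.X32 Cfsg.Agent.X32.TG Cfsg.Agent.LES Cfsg.Agent.He5
open scoped Pointwise

variable {G : Type*} [Group G]

theorem dih [Finite G] (N : Subgroup G) {x y : G} (hx : x * x = 1) (hy : y * y = 1)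
    (h : ∀ g, ∀ n ∈ N, g * y * g⁻¹ ≠ n * x) :
    ∃ s, s ∉ N ∧ s * s ∈ N ∧ x * s * x⁻¹ = s⁻¹ ∧ y * s * y⁻¹ = s⁻¹ ∧
      ∀ k, x * k * x⁻¹ = y * k * y⁻¹ → Commute s k := by
  classical
  have ex : ∃ k, 0 < k ∧ (x * y) ^ k ∈ N :=
    ⟨_, orderOf_pos (x * y), by rw [pow_orderOf_eq_one]; exact N.one_mem⟩
  have ix := inv_self hx
  have iy := inv_self hy
  have h1 : ∀ m, x * (x * y) ^ m * x⁻¹ = ((x * y) ^ m)⁻¹ := fun m => by
    rw [← conj_pow, ← inv_pow, mul_inv_rev, ix, iy, ← mul_assoc, hx, one_mul]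
  have h2 : ∀ m, y * (x * y) ^ m * y⁻¹ = ((x * y) ^ m)⁻¹ := fun m => by
    rw [← conj_pow, ← inv_pow, mul_inv_rev, ix, mul_assoc, mul_inv_cancel_right, iy]
  obtain ⟨p, e⟩ := Nat.find_spec ex
  rcases Nat.even_or_odd' (Nat.find ex) with ⟨m, hm | hm⟩
  · refine ⟨(x * y) ^ m, fun hN => Nat.find_min ex (m := m) (by omega) ⟨by omega, hN⟩,
      by rwa [← pow_add, ← two_mul, ← hm], h1 m, h2 m, fun k hk => Commute.pow_left ?_ m⟩
    refine comm_of_conj ?_
    calc _ = x * (y * k * y⁻¹) * x⁻¹ := by group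
      _ = x * x * k * (x * x)⁻¹ := by rw [← hk]; group
      _ = k := by rw [hx]; group
  · refine absurd ?_ (h ((x * y) ^ (m + 1)) _ e)
    have := h2 (m + 1)
    calc _ = (x * y) ^ (m + 1) * (y * ((x * y) ^ (m + 1))⁻¹ * y⁻¹) * y := by group
      _ = (x * y) ^ (m + 1) * (x * y) ^ (m + 1) * y := by
        rw [show y * ((x * y) ^ (m + 1))⁻¹ * y⁻¹ = (y * (x * y) ^ (m + 1) * y⁻¹)⁻¹ by group, this,
          inv_inv]
      _ = (x * y) ^ (2 * m + 1) * x * (y * y) := by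
        rw [← pow_add, show m + 1 + (m + 1) = 2 * m + 1 + 1 by ring, pow_succ]; group
      _ = _ := by rw [hy, hm, mul_one]

theorem norm_of_fin [Finite G] {H : Subgroup G} {g : G} (h : ∀ x ∈ H, g * x * g⁻¹ ∈ H) :
    g ∈ normalizer (H : Set G) := mem_normalizer_fintype h

section Graph
variable {K : Type*} [Group K]

/-- a subgroup of a product which is the graph of a partial homomorphism -/
def Fn (Γ : Subgroup (K × G)) : Prop := ∀ g, ((1 : K), g) ∈ Γ → g = 1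

theorem Fn.eq {Γ : Subgroup (K × G)} (h : Fn Γ) {k : K} {g g' : G} (h1 : (k, g) ∈ Γ)
    (h2 : (k, g') ∈ Γ) : g = g' :=
  inv_mul_eq_one.1 (h _ (by simpa using Γ.mul_mem (Γ.inv_mem h1) h2))

theorem Fn.hom {Γ : Subgroup (K × G)} (h : Fn Γ) (top : ∀ k, ∃ g, (k, g) ∈ Γ) :
    ∃ ψ : K →* G, ∀ k g, (k, g) ∈ Γ → ψ k = g := by
  choose f hf using top
  exact ⟨MonoidHom.mk' f fun a b => h.eq (hf _) (Γ.mul_mem (hf a) (hf b)),
    fun k g hg => h.eq (hf k) hg⟩

def gr {M : Type*} [Group M] (l : List M) : Subgroup M := closure {p | p ∈ l}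

theorem mem_gr {M : Type*} [Group M] {l : List M} {p : M} (h : p ∈ l) : p ∈ gr l :=
  subset_closure h

theorem gr_cons {M : Type*} [Group M] {l : List M} {p q : M} (h : p ∈ gr l) : p ∈ gr (q :: l) :=
  closure_mono (fun _ => List.mem_cons_of_mem q) h

theorem gr_ind {M : Type*} [Group M] [Finite M] {l : List M} {P : M → Prop} (h1 : P 1)
    (h : ∀ q ∈ l, ∀ p, P p → P (q * p)) : ∀ p ∈ gr l, P p := fun p hp => by
  have : p ∈ Submonoid.closure {p | p ∈ l} := by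
    rw [← closure_toSubmonoid_of_finite]; exact hp
  induction this using Submonoid.closure_induction_left with
  | one => exact h1
  | mul_left x hx y hy ih => exact h x hx y (ih (by
      rw [← closure_toSubmonoid_of_finite] at hy; exact hy))

theorem norm_gr {M : Type*} [Group M] [Finite M] {l : List M} {g : M}
    (h : ∀ q ∈ l, g * q * g⁻¹ ∈ gr l) : g ∈ normalizer (gr l : Set M) :=
  norm_of_fin (gr_ind (by simp) fun q hq p hp => by
    simpa [mul_assoc] using mul_mem (h q hq) hp)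

theorem Fn.cons [Finite K] [Finite G] {l : List (K × G)} (h : Fn (gr l)) {a : K} {g : G} {n : ℕ}
    (hn : n.Prime) (h1 : (a, g) ∈ normalizer (gr l : Set (K × G))) (h2 : (a, g) ^ n ∈ gr l)
    (P : K → Prop) {ks : List K} (hk : l.map Prod.fst = ks)
    (c : P 1 ∧ ¬ P a ∧ ∀ k, P k → ∀ u ∈ ks, P (u * k)) : Fn (gr ((a, g) :: l)) := by
  intro y hy
  have hd : ∀ q ∈ gr l, P q.1 := gr_ind c.1 fun q hq p hp =>
    c.2.2 _ hp _ (hk ▸ List.mem_map_of_mem hq)
  have hle : gr ((a, g) :: l) ≤ gr l ⊔ zpowers (a, g) := (closure_le _).2 fun p hp => by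
    rcases List.mem_cons.1 hp with rfl | hp
    exacts [mem_sup_right (mem_zpowers _), mem_sup_left (mem_gr hp)]
  have := hle hy
  rw [← SetLike.mem_coe, coe_mul_of_right_le_normalizer_left _ _ (zpowers_le.2 h1)] at this
  obtain ⟨q, hq, _, ⟨i, rfl⟩, e⟩ := this
  have hz : ∀ c : ℤ, (a, g) ^ (n * c) ∈ gr l := fun c => by
    rw [zpow_mul, zpow_natCast]; exact zpow_mem h2 c
  by_cases hi : (n : ℤ) ∣ i
  · obtain ⟨c, rfl⟩ := hi
    exact h y (e ▸ mul_mem hq (hz c))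
  · obtain ⟨u, v, huv⟩ := ((Nat.prime_iff_prime_int.1 hn).irreducible.coprime_iff_not_dvd).2 hi
    have e1 : q.1⁻¹ = a ^ i := (eq_inv_of_mul_eq_one_right (congrArg Prod.fst e)).symm
    refine absurd (hd _ (mul_mem (hz u) (zpow_mem (inv_mem hq) v))) ?_
    rw [Prod.fst_mul, Prod.pow_fst, Prod.pow_fst, Prod.fst_inv, e1, ← zpow_mul, ← zpow_add,
      mul_comm _ u, mul_comm i, huv, zpow_one]
    exact c.2.1

end Graph

section Rank
variable {T T' : Tab} [Fact T.OK] [Fact T'.OK] {K : Type} [Group K]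

theorem rank_on (S P : TG T → Prop) (gs : List (TG T)) (R : TG T → TG T → Prop) (h1 : P 1)
    (c : ∀ k, S k → k = 1 ∨ ∃ g ∈ gs, S (g⁻¹ * k) ∧ (g⁻¹ * k).v < k.v ∧ R g k)
    (h : ∀ g ∈ gs, ∀ k, R g k → P (g⁻¹ * k) → P k) : ∀ k, S k → P k := by
  intro k
  induction hn : k.v using Nat.strong_induction_on generalizing k with
  | _ n ih =>
    intro hk
    rcases c k hk with rfl | ⟨g, hg, a, b, r⟩
    exacts [h1, h g hg k r (ih _ (hn ▸ b) _ rfl a)]

/-- `n` conjugates the tuple `l` to the tuple `l'` -/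
def Cq {K' : Type} [Group K'] (φ : K →* G) (φ' : K' →* G) (n : G) (l : List K) (l' : List K') :
    Prop := ∀ i, n * φ (tup l i) * n⁻¹ = φ' (tup l' i)

variable {K' : Type} [Group K'] {φ : K →* G} {φ' : K' →* G} {n : G}

theorem Cq.nil : Cq φ φ' n [] [] := fun i => by simp [tup]

theorem Cq.cons {a : K} {b : K'} {l : List K} {l' : List K'} (h : n * φ a * n⁻¹ = φ' b)
    (h' : Cq φ φ' n l l') : Cq φ φ' n (a :: l) (b :: l') := fun i => by
  cases i
  exacts [h, h' _]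

theorem Cq.ev {l : List K} {l' : List K'} (h : Cq φ φ' n l l') (W : List ℕ) :
    n * φ (BN.ev (tup l) W) * n⁻¹ = φ' (BN.ev (tup l') W) := by
  induction W with
  | nil => simp
  | cons k W ih => rw [BN.ev_cons, BN.ev_cons, map_mul, map_mul, ← ih, ← h k]; group

theorem act_rank {φ : TG T →* G} (f : TG T → K') (S : TG T → Prop) (gs : List (TG T))
    (hg : ∀ g ∈ gs, n * φ g * n⁻¹ = φ' (f g))
    (c : f 1 = 1 ∧ ∀ k, S k → k = 1 ∨
      ∃ g ∈ gs, S (g⁻¹ * k) ∧ (g⁻¹ * k).v < k.v ∧ f k = f g * f (g⁻¹ * k)) :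
    ∀ k, S k → n * φ k * n⁻¹ = φ' (f k) :=
  rank_on S _ gs _ (by simp [c.1]) c.2 fun g h k r ih => by
    rw [r, map_mul, ← ih, ← hg g h, map_mul, map_inv]; group

theorem Cq.act {φ : TG T →* G} {l : List (TG T)} {l' : List K'} (h : Cq φ φ' n l l')
    (f : TG T → K') (S : TG T → Prop) (gs : List (TG T)) (ws : List (List ℕ))
    (c : (∀ g ∈ gs, ∃ W ∈ ws, BN.ev (tup l) W = g ∧ BN.ev (tup l') W = f g) ∧
      f 1 = 1 ∧ ∀ k, S k → k = 1 ∨
      ∃ g ∈ gs, S (g⁻¹ * k) ∧ (g⁻¹ * k).v < k.v ∧ f k = f g * f (g⁻¹ * k)) :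
    ∀ k, S k → n * φ k * n⁻¹ = φ' (f k) :=
  act_rank f S gs (fun g hg => by
    obtain ⟨W, -, a, b⟩ := c.1 g hg
    rw [← b, ← a]; exact h.ev W) c.2

theorem mem_rank {H : Subgroup (TG T)} (S : TG T → Prop) (gs : List (TG T))
    (hg : ∀ g ∈ gs, g ∈ H)
    (c : ∀ k, S k → k = 1 ∨ ∃ g ∈ gs, S (g⁻¹ * k) ∧ (g⁻¹ * k).v < k.v ∧ True) :
    ∀ k, S k → k ∈ H :=
  rank_on S _ gs _ H.one_mem c fun g h k _ ih => by simpa using H.mul_mem (hg g h) ih

/-- a function between tables stored with sixteen bits per entry -/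
noncomputable def lq (tab : ℕ) (k : TG T) : TG T' :=
  e (Nat.land (Nat.shiftRight tab (Nat.shiftLeft k.v (nat_lit 4))) (nat_lit 65535))

omit [Fact T.OK] in
instance evLq (tab : ℕ) (k : TG T) {m : ℕ} [EV k m] : EV (lq tab k : TG T')
    (Nat.mod (Nat.land (Nat.shiftRight tab (Nat.shiftLeft m (nat_lit 4))) (nat_lit 65535)) T'.n) :=
  ⟨by rw [← EV.h (a := k)]; rfl⟩

omit [Fact T.OK] in
instance instLtNat (k : TG T) (m : ℕ) {n : ℕ} [EV k n] : BD (k.v < m) (Nat.blt n m) :=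
  ⟨by rw [← EV.h (a := k), blt_iff]⟩

end Rank

section Two

theorem isP_comm {l : List G} (h : ∀ a ∈ l, a * a = 1 ∧ ∀ b ∈ l, Commute a b) :
    IsPGroup 2 (gr l) := fun g => ⟨1, Subtype.ext (by
  have := isMulCommutative_closure (k := {p | p ∈ l}) fun a ha b hb => (h a ha).2 b hb
  obtain ⟨g, hg⟩ := g
  change g ^ 2 ^ 1 = 1
  rw [pow_one, sq]
  induction hg using closure_induction with
  | mem x hx => exact (h x hx).1
  | one => simp
  | mul x y hx hy a b =>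
    rw [mul_assoc, ← mul_assoc y, setLike_mul_comm hy hx, mul_assoc, b, mul_one, a]
  | inv x _ a => rw [← mul_inv_rev, a, inv_one])⟩

variable [Finite G]

theorem two_dvd_relIndex {R P : Subgroup G} (hP : IsPGroup 2 P) (h : ¬ P ≤ R) :
    2 ∣ R.relIndex P := by
  have := Fact.mk Nat.prime_two
  obtain ⟨n, hn⟩ := hP.index (R.subgroupOf P)
  cases n with
  | zero => exact absurd (relIndex_eq_one.1 hn) h
  | succ n => exact (dvd_pow_self 2 n.succ_ne_zero).trans hn.symm.dvd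

theorem le_of_odd {S R H : Subgroup G} (hi : ¬ 2 ∣ S.relIndex H) (hR : IsPGroup 2 R) (h1 : S ≤ R)
    (h2 : R ≤ H) : R ≤ S := by_contra fun h =>
  hi ((two_dvd_relIndex hR h).trans (Dvd.intro _ (relIndex_mul_relIndex S R H h1 h2)))

theorem le_of_conj {R P : Subgroup G} (h : R ≤ P) {m : G} (hm : ∀ x ∈ P, m * x * m⁻¹ ∈ R) :
    P ≤ R :=
  (eq_of_le_of_card_ge h (Nat.card_le_card_of_injective (fun x : P => (⟨_, hm x x.2⟩ : R))
    fun x y e => Subtype.ext (by simpa using e))).ge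

theorem exists_Z2 {P : Subgroup G} (hP : IsPGroup 2 P) {N : Subgroup G}
    (hN : ∀ x ∈ P, ∀ n ∈ N, x * n * x⁻¹ ∈ N) (h : ¬ P ≤ N) :
    ∃ k ∈ P, k ∉ N ∧ ∀ x ∈ P, x * k * x⁻¹ * k⁻¹ ∈ N := by
  have := Fact.mk Nat.prime_two
  have : (N.subgroupOf P).Normal := ⟨fun n hn x => hN x x.2 n hn⟩
  have : Nontrivial (P ⧸ N.subgroupOf P) :=
    QuotientGroup.nontrivial_iff.2 fun e => h (subgroupOf_eq_top.1 e)
  have := (hP.to_quotient (N.subgroupOf P)).center_nontrivial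
  obtain ⟨⟨c, hc⟩, h1⟩ := exists_ne (1 : center (P ⧸ N.subgroupOf P))
  obtain ⟨k, rfl⟩ := QuotientGroup.mk_surjective c
  refine ⟨k, k.2, fun hk => h1 (Subtype.ext ((QuotientGroup.eq_one_iff _).2 hk)), fun x hx => ?_⟩
  refine (QuotientGroup.eq_one_iff (N := N.subgroupOf P) (⟨x, hx⟩ * k * (⟨x, hx⟩ : P)⁻¹ * k⁻¹)).1 ?_
  simp only [QuotientGroup.mk_mul, QuotientGroup.mk_inv]
  rw [mem_center_iff.1 hc]; group

end Two

end Cfsg.Agent.Y12
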