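import Cfsg.Agent.Y12.OneF

/-! The first fusion step: an element conjugating `e` to `e z`. -/

set_option autoImplicit false
set_option maxRecDepth 100000
set_option synthInstance.maxHeartbeats 400000
set_option synthInstance.maxSize 4000

namespace Cfsg.Agent.Y12

open Subgroup Cfsg.Agent.Comp Cfsg.Agent.X32 Cfsg.Agent.X32.TG Cfsg.Agent.LES Cfsg.Agent.He5
open scoped Cfsg.Agent.PLocal.Amb

variable {G : Type*} [Group G]

theorem cj_sq (g a : G) : g * a * g⁻¹ * (g * a * g⁻¹) = g * (a * a) * g⁻¹ := by group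

theorem cj_comm (g : G) {a b : G} (h : Commute a b) : Commute (g * a * g⁻¹) (g * b * g⁻¹) :=
  h.map (MulAut.conj g)

theorem cj_inj {g a b : G} (h : g * a * g⁻¹ = g * b * g⁻¹) : a = b := by simpa using h

theorem comm_iff {K : Type*} [Group K] {φ : K →* G} (h : Function.Injective φ) {a b : K} :
    Commute (φ a) (φ b) ↔ Commute a b :=
  ⟨fun e => h (by simpa using e.eq), fun e => e.map φ⟩

namespace Base
variable {φ : D →* G} {y : G} (H : Base φ y)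
include H

theorem not_sq {g r : G} : g * φ de * g⁻¹ ≠ r * r := fun h =>
  H.nsq (g⁻¹ * r * g) (by
    rw [show g⁻¹ * r * g * (g⁻¹ * r * g) = g⁻¹ * (r * r) * g by group, ← h]; group)

theorem ez {g : G} : g * φ de * g⁻¹ ≠ φ dz := by
  rw [← fD.2.2.2.1, map_mul]; exact H.not_sq

omit H in
theorem ce (k : D) : Commute (φ k) (φ de) := (fD.1 k).1.map φ

omit H in
theorem cz (k : D) : Commute (φ k) (φ dz) := (fD.1 k).2.map φ

omit H in
theorem e2 : φ de * φ de = 1 := Setup.sq fD.2.1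

theorem e1 : φ de ≠ 1 := by simpa using H.inj.ne fD.2.2.2.2.2.2.2.2.2.1

theorem z1 : φ dz ≠ 1 := by simpa using H.inj.ne fD.2.2.2.2.2.2.2.2.2.2.1

variable [Finite G]

theorem no5 {u a b c d : G} (hu : IsConj (φ de) u) : ¬ R5 u a b c d := fun h => by
  obtain ⟨g, rfl⟩ := isConj_iff.1 hu
  obtain ⟨a, rfl⟩ := (MulAut.conj g).surjective a
  obtain ⟨b, rfl⟩ := (MulAut.conj g).surjective b
  obtain ⟨c, rfl⟩ := (MulAut.conj g).surjective c
  obtain ⟨d, rfl⟩ := (MulAut.conj g).surjective d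
  have h := (R5.map_iff (MulAut.conj g).toMonoidHom (MulAut.conj g).injective).1 h
  obtain ⟨⟨a1, a2, -⟩, ⟨b1, b2, b3, -⟩, ⟨c1, c2, c3, c4, -⟩, d1, d2, d3, d4, d5, -⟩ := id h
  obtain ⟨m, hm, hx⟩ := conj_into (SD_p.map φ) H.syl (isP_comm (l := [a, b, c, d]) (by
    simp [*, b3.symm, c3.symm, c4.symm, d3.symm, d4.symm, d5.symm])) ((closure_le _).2 (by
      intro x hx
      simp only [Set.mem_ofPred_eq, List.mem_cons, List.not_mem_nil, or_false] at hx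
      rcases hx with rfl | rfl | rfl | rfl <;> exact mem_cent.2 ‹_›))
  obtain ⟨a', ha, ea⟩ := hx a (mem_gr (by simp))
  obtain ⟨b', hb, eb⟩ := hx b (mem_gr (by simp))
  obtain ⟨c', hc, ec⟩ := hx c (mem_gr (by simp))
  obtain ⟨d', hd, ed⟩ := hx d (mem_gr (by simp))
  have h := (R5.map_iff (MulAut.conj m).toMonoidHom (MulAut.conj m).injective).2 h
  simp only [MulEquiv.coe_toMonoidHom, MulAut.conj_apply, conj_of_comm (mem_cent.1 hm), ← ea, ← eb,
    ← ec, ← ed] at h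
  obtain ⟨⟨a1, -, a3⟩, ⟨b1, -, b3, b4⟩, ⟨c1, -, c3, c4, c5⟩, d1, -, d3, d4, d5, d6⟩ :=
    (R5.map_iff φ H.inj).1 h
  exact d6 (f5.2 a' ((f5.1 _ ha a1).resolve_left fun e => a3 (by simp [e])) a3
    b' ((f5.1 _ hb b1).resolve_left fun e => b4 (by simp [e])) b3 b4
    c' ((f5.1 _ hc c1).resolve_left fun e => c5 (by simp [e])) c3 c4 c5
    d' ((f5.1 _ hd d1).resolve_left fun e => d6 (by simp [e])) d3 d4 d5)

omit [Finite G] in
theorem cen {n : G} (hn : ∀ x ∈ SD.map φ, n⁻¹ * x * n ∈ SD.map φ) {u u' : D}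
    (hu : ∀ k, Commute k u) (e : n * φ u * n⁻¹ = φ u') : u' ∈ [1, dz, de, de * dz] :=
  fD.2.2.2.2.2.2.2.2.2.2.2.2.2.2.1 u' fun g hg => (comm_iff H.inj).1 (by
    obtain ⟨k, -, h⟩ := hn _ ⟨g, fD.2.2.2.2.2.2.2.2.2.2.2.2.2.2.2.1 g hg, rfl⟩
    have := cj_comm n ((hu k).symm.map φ)
    rwa [e, h, show n * (n⁻¹ * φ g * n) * n⁻¹ = φ g by group] at this)

theorem two_index : 2 ∣ (SD.map φ).relIndex ⊤ := by_contra fun h => by
  rw [relIndex_top_right] at h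
  have hc : ∀ S : Subgroup D, Nat.card (S.map φ) = Nat.card S := fun S =>
    (Nat.card_congr (S.equivMapOfInjective φ H.inj).toEquiv).symm
  rcases Transfer.thompson_transfer_extremal (P := SD.map φ) (Q := S0.map φ) (u := φ de)
    (Nat.not_even_iff_odd.1 fun e => h e.two_dvd) (map_mono fS0.2.1)
    (X32.relIndex_of_card (map_mono fS0.2.1) ((hc _).trans fS0.1) ((hc _).trans card_SD))
    (by rw [sq, e2]) (SD_p.map φ) (by rintro _ ⟨k, -, rfl⟩; exact ce k) with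
    ⟨M, a, b, c⟩ | ⟨g, ⟨k, hk, e⟩, b⟩
  · exact c (H.tr M a b)
  · have := H.cen (fun x => PLocal.Amb.inv_conj_mem_of_mem_normalizer
      (PLocal.Amb.mem_normalizer_of_cj_le b)) (fun k => (fD.1 k).1) e.symm
    simp only [List.mem_cons, List.not_mem_nil, or_false] at this
    rcases this with rfl | rfl | rfl | rfl
    · exact H.e1 (conj_eq_one_iff.1 (e.symm.trans (map_one φ)))
    · exact H.ez e.symm
    · exact fS0.2.2.1 hk
    · exact fS0.2.2.2 hk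

theorem exists_n : ∃ n, n * φ de * n⁻¹ = φ (de * dz) ∧ n * φ dz * n⁻¹ = φ dz ∧
    n * φ db * n⁻¹ = φ db := by
  obtain ⟨-, -, -, -, c1, c2, c3, c4, c5, -, -, c6, c7, c8, -⟩ := fD
  obtain ⟨n, -, h1, h2, h3⟩ := exists_norm (SD_p.map φ) le_top H.two_index H.syl
  obtain ⟨u, -, eu⟩ := h2 _ ⟨de, c1, rfl⟩
  obtain ⟨v, -, ev⟩ := h2 _ ⟨dz, c2, rfl⟩
  obtain ⟨w, hw, ew⟩ := h2 _ ⟨dr', c3, rfl⟩
  have hu := H.cen h3 (fun k => (fD.1 k).1) eu.symm
  have hv := H.cen h3 (fun k => (fD.1 k).2) ev.symm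
  simp only [List.mem_cons, List.not_mem_nil, or_false] at hu hv
  obtain rfl : u = de * dz := by
    rcases hu with rfl | rfl | rfl | rfl
    · exact absurd (conj_eq_one_iff.1 (eu.symm.trans (map_one φ))) H.e1
    · exact absurd eu.symm H.ez
    · exact absurd (mem_cent.2 (X32.comm_of_conj eu.symm)) h1
    · rfl
  obtain rfl : dz = v := by
    rcases hv with rfl | rfl | rfl | rfl
    · exact absurd (conj_eq_one_iff.1 (ev.symm.trans (map_one φ))) H.z1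
    · rfl
    · exact absurd (by rw [ev]; group) (H.ez (g := n⁻¹))
    · exact absurd (cj_inj (eu.symm.trans ev)) (by simpa using H.ez (g := 1))
  have eb : n * φ db * n⁻¹ = φ (w * w) := by rw [← c4, map_mul, map_mul, ew, cj_sq]
  have := fD.2.2.2.2.2.2.2.2.2.2.2.2.2.2.2.2 w hw (H.inj (by
    rw [map_mul, ← eb, conj_sq (Setup.sq c5), map_one]))
  simp only [List.mem_cons, List.not_mem_nil, or_false] at this
  rcases this with h | h | h | h <;> rw [h] at eb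
  · exact absurd (H.inj (by simpa using eb : φ db = φ 1)) c6
  · exact absurd (H.inj (cj_inj (eb.trans ev))) c7
  · exact ⟨n, eu.symm, ev.symm, eb⟩
  · have k : ∀ a c, n * φ a * n⁻¹ = φ c → φ dt * n * φ a * (φ dt * n)⁻¹ = φ (dt * c * dt⁻¹) :=
      fun a c h => by rw [map_mul, map_mul, map_inv, ← h]; group
    exact ⟨φ dt * n, (k _ _ eu.symm).trans (by
      rw [conj_of_comm ((fD.1 dt).1.mul_right (fD.1 dt).2)]),
      (k _ _ ev.symm).trans (by rw [conj_of_comm (fD.1 dt).2]), (k _ _ eb).trans (by rw [c8])⟩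

theorem exists_γ0 : ∃ γ, ∃ s ∈ List.range 8, ∀ k, γ * φ k * γ⁻¹ = φ (A s k) := by
  obtain ⟨n, h1, h2, h3⟩ := H.exists_n
  have h4 : ∀ k, ∃ k', φ k' = n * φ k * n⁻¹ := fun k => by
    have a := h2 ▸ cj_comm n (cz (φ := φ) k)
    have b := (h1 ▸ cj_comm n (ce (φ := φ) k)).mul_right a
    rw [← map_mul, mul_assoc de, fD.2.2.1, mul_one] at b
    exact H.cD _ b a
  obtain ⟨k1, e1⟩ := h4 dx
  obtain ⟨k2, e2⟩ := h4 dp
  obtain ⟨k3, e3⟩ := h4 dj
  have C : Cq φ φ n [dx, dp, dj] [k1, k2, k3] := .cons e1.symm (.cons e2.symm (.cons e3.symm .nil))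
  have one : ∀ W, BN.ev (tup [dx, dp, dj]) W = 1 → BN.ev (tup [k1, k2, k3]) W = 1 := fun W h =>
    H.inj (by rw [← C.ev, h]; simp)
  obtain ⟨⟨a1, a2, a3, a4, a5, a6, a7⟩, -⟩ := fA3
  obtain ⟨r, -, s, hs, b1, b2, b3, b4⟩ := fA1 k1
    (by simpa [tup, mul_assoc] using one [0, 0, 0] (by simpa [tup, mul_assoc] using a1)) k2
    (by simpa [tup] using one [1, 1] (by simpa [tup] using a2))
    (by simpa [tup, mul_assoc] using one [0, 1, 0, 1] (by simpa [tup, mul_assoc] using a3)) k3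
    (by simpa [tup] using one [2, 2] (by simpa [tup] using a4))
    (H.inj (by rw [← C.ev, a5, h2])) (H.inj (by rw [← C.ev, a6, h3])) (one _ a7)
  have k : ∀ a c d, φ c = n * φ a * n⁻¹ → r * c * r⁻¹ = d → φ r * n * φ a * (φ r * n)⁻¹ = φ d :=
    fun a c d h h' => by rw [← h', map_mul, map_mul, map_inv, h]; group
  exact ⟨φ r * n, s, hs, fun g => Cq.act (.cons (k _ _ _ e1 b1) (.cons (k _ _ _ e2 b2)
    (.cons (k _ _ _ e3 b3) (.cons (k _ _ _ h1.symm b4) .nil)))) (A s) (fun _ => True) _ _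
    (fA2 s hs).1 g trivial⟩

theorem exists_γ : ∃ γ s p, (∀ k, γ * φ k * γ⁻¹ = φ (A s k)) ∧ γ * γ = 1 ∧
    γ * y * (γ * y * (γ * y)) = φ p ∧
    ((s = 1 ∧ (p = e 0 ∨ p = e 289)) ∨ (s = 7 ∧ (p = e 52 ∨ p = e 35))) := by
  obtain ⟨γ, s, hs, h⟩ := H.exists_γ0
  obtain ⟨-, ⟨a1, a2, a3, a4, a5, a6⟩, a7, a8⟩ := fA2 s hs
  have sq : ∀ γ, (∀ k, γ * φ k * γ⁻¹ = φ (A s k)) → ∀ k,
      γ * γ * φ k * (γ * γ)⁻¹ = φ (A s (A s k)) := fun γ h k => by rw [← h, ← h]; group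
  obtain ⟨γ, h, h2⟩ : ∃ γ, (∀ k, γ * φ k * γ⁻¹ = φ (A s k)) ∧ γ * γ = 1 := by
    obtain ⟨r, hr⟩ := H.cD (γ * γ) (X32.comm_of_conj (by rw [sq γ h, a1]))
      (X32.comm_of_conj (by rw [sq γ h, a2]))
    rcases a7 r (fun g _ => H.inj (by rw [← sq γ h, map_mul, map_mul, map_inv, hr]))
      (H.inj (by rw [← h, hr]; group)) with rfl | rfl
    · exact ⟨γ, h, by rw [← hr, map_one]⟩
    · refine ⟨γ * φ de, fun k => ?_, ?_⟩
      · rw [← h]; nth_rewrite 2 [← conj_of_comm (ce (φ := φ) k).symm]; group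
      · calc _ = γ * φ de * γ⁻¹ * (γ * γ) * φ de := by group
          _ = φ (A s de * de) * φ dz := by rw [h, ← hr, mul_assoc, (ce dz).eq, map_mul, mul_assoc]
          _ = 1 := by rw [a3, ← map_mul, fD.2.2.1, map_one]
  have hy : ∀ k, Mem mR k → γ * y * φ k * (γ * y)⁻¹ = φ (AY s k) := fun k hk => by
    rw [← h, ← H.ya k hk]; group
  have h3 : ∀ k, Mem mR k → γ * y * (γ * y * (γ * y)) * φ k * (γ * y * (γ * y * (γ * y)))⁻¹ =
      φ (AY s (AY s (AY s k))) := fun k hk => by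
    rw [← hy _ (a6 _ (a6 _ hk)), ← hy _ (a6 _ hk), ← hy _ hk]; group
  obtain ⟨r, hr⟩ := H.cD _ (X32.comm_of_conj ((h3 _ (fA3.2 _ (by simp))).trans (by rw [a4])))
    (X32.comm_of_conj ((h3 _ (fA3.2 _ (by simp))).trans (by rw [a5])))
  obtain ⟨b1, b2⟩ := a8 r (fun g hg => H.inj (by
    rw [← h3 g (fA3.2 g (by simp only [List.mem_cons] at hg ⊢; tauto)), map_mul, map_mul, map_inv,
      hr])) fun g _ => H.inj (by rw [← sq γ h, h2]; simp)
  exact ⟨γ, s, r, h, h2, hr.symm, b2 (H.inj (by rw [← hy r b1, hr]; group))⟩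

end Base

end Cfsg.Agent.Y12
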