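import Cfsg.Agent.Y12.Base

/-! Computations in `2 × C(z)`. -/

set_option autoImplicit false
set_option maxRecDepth 100000
set_option synthInstance.maxHeartbeats 400000
set_option synthInstance.maxSize 4000

namespace Cfsg.Agent.Y12

open Subgroup Cfsg.Agent.Comp Cfsg.Agent.X32 Cfsg.Agent.X32.TG Cfsg.Agent.LES Cfsg.Agent.He5

variable {G : Type*} [Group G]

/-- `u, a, b, c, d` generate an elementary abelian group of order `32` -/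
def R5 (u a b c d : G) : Prop :=
  (a * a = 1 ∧ Commute a u ∧ a ∉ [1, u]) ∧
  (b * b = 1 ∧ Commute b u ∧ Commute b a ∧ b ∉ [1, u, a, a * u]) ∧
  (c * c = 1 ∧ Commute c u ∧ Commute c a ∧ Commute c b ∧
    c ∉ [1, u, a, a * u, b, b * u, b * a, b * a * u]) ∧
  d * d = 1 ∧ Commute d u ∧ Commute d a ∧ Commute d b ∧ Commute d c ∧
    d ∉ [1, u, a, a * u, b, b * u, b * a, b * a * u,
      c, c * u, c * a, c * a * u, c * b, c * b * u, c * b * a, c * b * a * u]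

theorem R5.map_iff {G' : Type*} [Group G'] (f : G →* G') (hf : Function.Injective f)
    {u a b c d : G} : R5 (f u) (f a) (f b) (f c) (f d) ↔ R5 u a b c d := by
  simp only [R5, commute_iff_eq, ← map_mul, List.mem_cons, List.not_mem_nil, hf.eq_iff,
    map_eq_one_iff f hf]

theorem R5.of_sub {H : Subgroup G} {u a b c d : G} (hu : u ∉ H) (ha : a ∈ H) (hb : b ∈ H)
    (hc : c ∈ H) (hd : d ∈ H) (h1 : a * a = 1 ∧ Commute a u ∧ a ≠ 1)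
    (h2 : b * b = 1 ∧ Commute b u ∧ Commute b a ∧ b ∉ [1, a])
    (h3 : c * c = 1 ∧ Commute c u ∧ Commute c a ∧ Commute c b ∧ c ∉ [1, a, b, b * a])
    (h4 : d * d = 1 ∧ Commute d u ∧ Commute d a ∧ Commute d b ∧ Commute d c ∧
      d ∉ [1, a, b, b * a, c, c * a, c * b, c * b * a]) : R5 u a b c d := by
  have k1 : ∀ x ∈ H, x ≠ u := fun x hx e => hu (e ▸ hx)
  have k2 : ∀ x ∈ H, ∀ w ∈ H, x ≠ w * u := fun x hx w hw e =>
    hu ((H.mul_mem_cancel_left hw).1 (e ▸ hx))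
  simp only [R5, List.mem_cons, List.not_mem_nil, not_or] at *
  simp [h1, h2, h3, h4, k1, k2, ha, hb, hc, hd, mul_mem, k2 d hd _ (mul_mem (mul_mem hc hb) ha)]

noncomputable def LI : List D := es [1, 22, 23, 24, 25, 30, 31, 32, 33, 34, 35, 36, 37, 50, 51, 52,
  53, 54, 55, 56, 57, 122, 123, 124, 125, 126, 127, 128, 129, 130, 131, 132, 133, 134, 135, 136, 137,
  138, 139, 180, 181, 182, 183, 224, 225, 226, 227, 288, 289, 290, 291, 380, 381, 382, 383]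

theorem f5 : (∀ k ∈ SD, k * k = 1 → k = 1 ∨ k ∈ LI) ∧ ∀ a ∈ LI, a ∉ [1, de] →
    ∀ b ∈ LI, Commute b a → b ∉ [1, de, a, a * de] → ∀ c ∈ LI, Commute c a → Commute c b →
    c ∉ [1, de, a, a * de, b, b * de, b * a, b * a * de] →
    ∀ d ∈ LI, Commute d a → Commute d b → Commute d c →
    d ∈ [1, de, a, a * de, b, b * de, b * a, b * a * de,
      c, c * de, c * a, c * a * de, c * b, c * b * de, c * b * a, c * b * a * de] :=
  BD.of (by decide +kernel)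

theorem fD : (∀ k, Commute k de ∧ Commute k dz) ∧ de * de = 1 ∧ dz * dz = 1 ∧ dr * dr = dz ∧
    de ∈ SD ∧ dz ∈ SD ∧ dr' ∈ SD ∧ dr' * dr' = db ∧ db * db = 1 ∧ de ≠ 1 ∧ dz ≠ 1 ∧ db ≠ 1 ∧ db ≠ dz ∧
    dt * (db * dz) * dt⁻¹ = db ∧
    (∀ k, (∀ g ∈ [dr, dr', dj, dt], Commute k g) → k ∈ [1, dz, de, de * dz]) ∧
    (∀ g ∈ [dr, dr', dj, dt], g ∈ SD) ∧
    ∀ k ∈ SD, k * k * (k * k) = 1 → k * k ∈ [1, dz, db, db * dz] := BD.of (by decide +kernel)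

noncomputable abbrev A (s : ℕ) (k : D) : D := lq (Nat.shiftRight tA (Nat.mul s (nat_lit 6144))) k

noncomputable abbrev AY (s : ℕ) (k : D) : D := A s (lq tY k)

theorem fA1 : ∀ k1 : D, k1 * k1 * k1 = 1 → ∀ k2 : D, k2 * k2 = 1 → k1 * k2 * (k1 * k2) = 1 →
    ∀ k3 : D, k3 * k3 = 1 → BN.ev (tup [k1, k2, k3]) [0, 2, 0, 2, 0, 2] = dz →
    BN.ev (tup [k1, k2, k3]) [0, 2, 0, 2, 0, 1, 2, 1] = db →
    BN.ev (tup [k1, k2, k3]) [0, 2, 1, 0, 2, 0, 1, 2, 1, 0, 0, 2, 1, 2] = 1 →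
    ∃ r ∈ (es [0, 288, 70, 28, 206, 150, 188, 162, 52, 34, 56, 32, 132, 226, 380, 22] : List D),
      ∃ s ∈ List.range 8, r * k1 * r⁻¹ = A s dx ∧ r * k2 * r⁻¹ = A s dp ∧ r * k3 * r⁻¹ = A s dj ∧
        r * (de * dz) * r⁻¹ = A s de :=
  BD.of (by decide +kernel)

theorem fA2 : ∀ s ∈ List.range 8,
    ((∀ g ∈ (es [1, 2, 4, 6, 8, 10, 12, 14, 16, 18, 20, 22] : List D),
      ∃ W ∈ [[3], [1, 0, 2, 1, 0, 2], [2, 1, 0, 2, 1, 0], [1, 2, 1, 0, 2, 0, 0], [0, 2, 1, 0, 2, 1],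
        [0, 0, 2, 0, 1, 2, 1], [1, 2, 0, 1, 2, 0], [2, 0, 1, 2, 0, 1], [0, 1, 2, 0, 1, 2], [0],
        [0, 0], [1]], BN.ev (tup [dx, dp, dj, de]) W = g ∧
        BN.ev (tup [A s dx, A s dp, A s dj, A s de]) W = A s g) ∧
      A s 1 = 1 ∧ ∀ k, True → k = 1 ∨
      ∃ g ∈ (es [1, 2, 4, 6, 8, 10, 12, 14, 16, 18, 20, 22] : List D), True ∧ (g⁻¹ * k).v < k.v ∧
        A s k = A s g * A s (g⁻¹ * k)) ∧
    (A s (A s de) = de ∧ A s (A s dz) = dz ∧ A s de * de = dz ∧ AY s (AY s (AY s de)) = de ∧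
      AY s (AY s (AY s dz)) = dz ∧ ∀ k, Mem mR k → Mem mR (AY s k)) ∧
    (∀ r, (∀ g ∈ [dx, dp, dj], A s (A s g) = r * g * r⁻¹) → A s r = r → r = 1 ∨ r = dz) ∧
    ∀ r, (∀ g ∈ [db, dr, dr', dj], AY s (AY s (AY s g)) = r * g * r⁻¹) →
      (∀ g ∈ [dx, dp, dj], A s (A s g) = g) → Mem mR r ∧
      (AY s r = r → (s = 1 ∧ (r = e 0 ∨ r = e 289)) ∨ (s = 7 ∧ (r = e 52 ∨ r = e 35))) :=
  BD.of (by decide +kernel)

theorem fA3 : (dx * dx * dx = 1 ∧ dp * dp = 1 ∧ dx * dp * (dx * dp) = 1 ∧ dj * dj = 1 ∧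
    BN.ev (tup [dx, dp, dj]) [0, 2, 0, 2, 0, 2] = dz ∧
    BN.ev (tup [dx, dp, dj]) [0, 2, 0, 2, 0, 1, 2, 1] = db ∧
    BN.ev (tup [dx, dp, dj]) [0, 2, 1, 0, 2, 0, 1, 2, 1, 0, 0, 2, 1, 2] = 1) ∧
    ∀ g ∈ [de, dz, db, dr, dr', dj], Mem mR g := BD.of (by decide +kernel)

noncomputable def mS0 : ℕ := nat_lit 0x500000000000050000005555000000000000000500004104105000041041055554000001041041504155041555415555

noncomputable def S0 : Subgroup D := sub mS0 (BD.of (by decide +kernel))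

theorem fS0 : Nat.card S0 = 2 ^ 6 ∧ (∀ k, Mem mS0 k → k ∈ SD) ∧ ¬ Mem mS0 de ∧
    ¬ Mem mS0 (de * dz) :=
  ⟨(card_sub (Mem mS0) fun _ => Iff.rfl).trans (by decide +kernel), BD.of (by decide +kernel)⟩

end Cfsg.Agent.Y12
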