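import Cfsg.Agent.Y12.Two

/-! The second conjugate `x γ₁ x⁻¹` normalises the group of order `512`. -/

set_option autoImplicit false
set_option maxRecDepth 100000
set_option synthInstance.maxHeartbeats 400000
set_option synthInstance.maxSize 4000

namespace Cfsg.Agent.Y12

open Subgroup Cfsg.Agent.Comp Cfsg.Agent.X32 Cfsg.Agent.X32.TG Cfsg.Agent.LES Cfsg.Agent.He5

variable {G : Type*} [Group G] {T : Tab} [Fact T.OK]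

noncomputable abbrev cx (tx : ℕ) (gb k : TG T) : TG T := gb * lq tx k * gb⁻¹

abbrev F3 (tx : ℕ) (gb : TG T) (L : List (TG T)) : Prop :=
  (∀ k, Z 136 k → Z 136 (cx tx gb k)) ∧
  (∀ g ∈ (es [32, 1, 2, 4, 16, 256, 64] : List (TG T)), Z 136 g) ∧
  (cx tx gb (cx tx gb (cx tx gb (e 32))) = e 32 ∧ cx tx gb (cx tx gb (cx tx gb (e 1))) = e 1) ∧
  (∀ g ∈ (es [2, 4, 16, 256] : List (TG T)), Z 192 g ∧ Z 192 (cx tx gb (cx tx gb (cx tx gb g)))) ∧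
  ∀ d : D, (∀ g ∈ (es [2, 4, 16, 256] : List (TG T)),
    d * κ g * d⁻¹ = κ (cx tx gb (cx tx gb (cx tx gb g)))) → Z 192 (ι d : TG T) ∧ κ (ι d : TG T) = d ∧
    (ι d * e 64 * (ι d)⁻¹ = cx tx gb (cx tx gb (cx tx gb (e 64))) → ι d ∈ L)

abbrev F0 (T : Tab) [Fact T.OK] : Prop :=
  (Z 192 (e 32 : TG T) ∧ κ (e 32 : TG T) = de) ∧ (Z 192 (e 1 : TG T) ∧ κ (e 1 : TG T) = dz) ∧
  (Z 192 (e 2 : TG T) ∧ κ (e 2 : TG T) = db) ∧ (Z 192 (e 30 : TG T) ∧ κ (e 30 : TG T) = dp) ∧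
  Z 192 (e 256 : TG T) ∧ κ (e 256 : TG T) = dt

theorem f00 : F0 (TK bt0 tt0) := BD.of (by decide +kernel)
theorem f01 : F0 (TK bt1 tt1) := BD.of (by decide +kernel)
theorem f02 : F0 (TK bt2 tt2) := BD.of (by decide +kernel)
theorem f03 : F0 (TK bt3 tt3) := BD.of (by decide +kernel)
theorem f30 : F3 (T := TK bt0 tt0) tx0 (e 128) [e 0, e 1] := BD.of (by decide +kernel)
theorem f31 : F3 (T := TK bt1 tt1) tx1 (e 128) [] := BD.of (by decide +kernel)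
theorem f32 : F3 (T := TK bt2 tt2) tx2 (e 136) [] := BD.of (by decide +kernel)
theorem f33 : F3 (T := TK bt3 tt3) tx3 (e 136) [e 0, e 1] := BD.of (by decide +kernel)

abbrev F4 (tx ta : ℕ) (gb ρ : TG T) : Prop :=
  (∀ k : TG T, (Z 136 k → Z 136 (lq tx k : TG T) ∧ Z 136 (gb * k * gb⁻¹)) ∧ Commute k ρ ∧
    ∃ w ∈ [1, e 30, gb, gb * e 30], Z 136 (k * w⁻¹) ∧
      (lq ta k : TG T) = lq tx (gb * lq tx (lq tx (k * w⁻¹) : TG T) * gb⁻¹) * lq ta w) ∧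
  (ρ * ρ = 1 ∧ Z 136 ρ ∧ lq tx ρ = ρ ∧ Z 136 (gb * gb) ∧ Z 136 (e 30 * gb * (e 30)⁻¹ * gb⁻¹)) ∧
  (lq ta (1 : TG T) : TG T) = 1 ∧ (lq ta (gb * e 30) : TG T) = lq ta gb * lq ta (e 30 : TG T) ∧
  lq ta gb = gb⁻¹ * (lq tx (lq tx (gb * gb) : TG T))⁻¹ * (lq tx (gb * gb))⁻¹ ∧
  lq ta (e 30 : TG T) = ρ * gb⁻¹ * (lq tx (lq tx (gb * gb) : TG T))⁻¹ *
    (lq tx (lq tx (e 30 * gb * (e 30)⁻¹ * gb⁻¹) : TG T))⁻¹ * e 30

theorem f400 : F4 (T := TK bt0 tt0) tx0 ta10 (e 128) (e 0) := BD.of (by decide +kernel)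
theorem f401 : F4 (T := TK bt0 tt0) tx0 ta11 (e 128) (e 1) := BD.of (by decide +kernel)
theorem f430 : F4 (T := TK bt3 tt3) tx3 ta70 (e 136) (e 0) := BD.of (by decide +kernel)
theorem f431 : F4 (T := TK bt3 tt3) tx3 ta71 (e 136) (e 1) := BD.of (by decide +kernel)

namespace St
variable {φ : D →* G} {y : G} {ψ : TG T →* G} {ty tx : ℕ} (H : St φ y ψ ty tx)
include H

theorem ee (c : F0 T) : ψ (e 32) = φ de := by rw [H.sk _ c.1.1, c.1.2]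
theorem zz (c : F0 T) : ψ (e 1) = φ dz := by rw [H.sk _ c.2.1.1, c.2.1.2]

theorem cube {gb : TG T} {L : List (TG T)} (c0 : F0 T) (c : F3 tx gb L) :
    ∃ ρ ∈ L, ψ gb * φ dx * (ψ gb * φ dx * (ψ gb * φ dx)) = ψ ρ := by
  obtain ⟨a1, a2, ⟨a3, a4⟩, a5, a6⟩ := c
  have h1 : ∀ k, Z 136 k → ψ gb * φ dx * ψ k * (ψ gb * φ dx)⁻¹ = ψ (cx tx gb k) := fun k hk => by
    rw [map_mul, map_mul, map_inv, ← H.xr k hk]; group
  have h3 : ∀ k, Z 136 k → ψ gb * φ dx * (ψ gb * φ dx * (ψ gb * φ dx)) * ψ k *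
      (ψ gb * φ dx * (ψ gb * φ dx * (ψ gb * φ dx)))⁻¹ = ψ (cx tx gb (cx tx gb (cx tx gb k))) :=
    fun k hk => by rw [← h1 _ (a1 _ (a1 _ hk)), ← h1 _ (a1 _ hk), ← h1 _ hk]; group
  obtain ⟨d, hd⟩ := H.cD _ (H.ee c0 ▸ X32.comm_of_conj ((h3 _ (a2 _ (by simp [es]))).trans (by rw [a3])))
    (H.zz c0 ▸ X32.comm_of_conj ((h3 _ (a2 _ (by simp [es]))).trans (by rw [a4])))
  obtain ⟨b1, b2, b3⟩ := a6 d fun g hg => H.inj (by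
    rw [← H.sk _ (a5 g hg).2, ← h3 g (a2 g (by simp only [es, List.map, List.mem_cons] at hg ⊢; tauto)),
      H.sk _ (a5 g hg).1, ← hd, map_mul, map_mul, map_inv])
  have e : ψ (ι d) = φ d := by rw [H.sk _ b1, b2]
  exact ⟨_, b3 (H.inj1 (by rw [← h3 _ (a2 _ (by simp [es])), ← hd, map_mul, map_mul, map_inv, e])),
    hd.symm.trans e.symm⟩

omit H in
theorem xi : (φ dx)⁻¹ = φ dx * φ dx := inv_eq_of_mul_eq_one_left (by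
  rw [← map_mul, ← map_mul, fA3.1.1, map_one])

theorem ga {gb ρ : TG T} {ta : ℕ} (c0 : F0 T) (c : F4 tx ta gb ρ)
    (h : ψ gb * φ dx * (ψ gb * φ dx * (ψ gb * φ dx)) = ψ ρ) (k : TG T) :
    φ dx * ψ gb * (φ dx)⁻¹ * ψ k * (φ dx * ψ gb * (φ dx)⁻¹)⁻¹ = ψ (lq ta k) := by
  obtain ⟨a1, ⟨a2, a3, a4, a5, a6⟩, a7, a8, a9, a10⟩ := c
  have xx : ∀ k, Z 136 k → (φ dx)⁻¹ * ψ k * φ dx = ψ (lq tx (lq tx k : TG T)) := fun k hk => by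
    rw [← H.xr _ ((a1 k).1 hk).1, ← H.xr k hk, ← mul_assoc, ← mul_assoc, ← xi, mul_assoc _ _ (φ dx)⁻¹,
      ← mul_inv_rev, ← xi, inv_inv]
  have tx' : ψ (e 30) * φ dx * (ψ (e 30))⁻¹ = (φ dx)⁻¹ := by
    rw [H.sk _ c0.2.2.2.1.1, c0.2.2.2.1.2, ← map_inv, ← map_inv, ← map_mul, ← map_mul]
    exact congrArg φ (BD.of (by decide +kernel))
  have c1 : Commute (ψ gb) (ψ ρ) := (a1 gb).2.1.map ψ
  have c2 : Commute (φ dx) (ψ ρ) := X32.comm_of_conj (by rw [H.xr _ a3, a4])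
  have r2 : ψ ρ * ψ ρ = 1 := Setup.sq a2
  generalize hγ : ψ gb = γ at h c1 ⊢
  generalize hx : φ dx = x at h c2 xx tx' ⊢
  have xi : x⁻¹ = x * x := hx ▸ xi
  have e1 : x⁻¹ * γ * x = (x * γ * x⁻¹)⁻¹ * γ⁻¹ * ψ ρ := by
    rw [← h]
    calc _ = x * (x * x)⁻¹ * γ * x := by group
      _ = _ := by rw [← xi]; group
  have e2 : x * γ * x⁻¹ * γ * (x * γ * x⁻¹) = γ⁻¹ * (ψ (lq tx (lq tx (gb * gb) : TG T)))⁻¹ := by
    have c3 : Commute ((x * γ * x⁻¹)⁻¹ * γ⁻¹) (ψ ρ) :=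
      ((c2.mul_left c1).mul_left c2.inv_left).inv_left.mul_left c1.inv_left
    rw [← xx _ a5, map_mul, hγ, show x⁻¹ * (γ * γ) * x = x⁻¹ * γ * x * (x⁻¹ * γ * x) by group, e1,
      mul_assoc _ (ψ ρ), ← mul_assoc (ψ ρ), ← c3.eq, mul_assoc _ (ψ ρ), r2]
    group
  have g1 : x * γ * x⁻¹ * ψ gb * (x * γ * x⁻¹)⁻¹ = ψ (lq ta gb) := by
    rw [a9, map_mul, map_mul, map_inv, map_inv, map_inv, hγ, ← e2, ← H.xr _ a5, hx, map_mul, hγ]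
    group
  have g2 : x * γ * x⁻¹ * ψ (e 30) * (x * γ * x⁻¹)⁻¹ = ψ (lq ta (e 30 : TG T)) := by
    rw [a10, map_mul, map_mul, map_mul, map_mul, map_inv, map_inv, map_inv, hγ, mul_assoc (ψ ρ), ← e2,
      ← xx _ a6, map_mul, map_mul, map_mul, map_inv, map_inv, hγ]
    calc _ = x * γ * x⁻¹ * (x⁻¹ * γ * x)⁻¹ * (x⁻¹ * γ * x) * (ψ (e 30) * x * (ψ (e 30))⁻¹ * ψ (e 30) *
          γ⁻¹ * (ψ (e 30))⁻¹ * (ψ (e 30) * x * (ψ (e 30))⁻¹)⁻¹ * ψ (e 30)) := by group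
      _ = x * γ * x⁻¹ * (ψ ρ)⁻¹ * γ * (x * γ * x⁻¹) * (x⁻¹ * γ * x) * (x⁻¹ * ψ (e 30) *
          γ⁻¹ * (ψ (e 30))⁻¹ * x * ψ (e 30)) := by nth_rewrite 1 [e1]; rw [tx']; group
      _ = _ := by
        rw [inv_self r2, ((c2.mul_left c1).mul_left c2.inv_left).eq]; group
  obtain ⟨b1, -, w, hw, b2, b3⟩ := a1 k
  have g3 : x * γ * x⁻¹ * ψ w * (x * γ * x⁻¹)⁻¹ = ψ (lq ta w) := by
    simp only [List.mem_cons, List.not_mem_nil, or_false] at hw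
    rcases hw with rfl | rfl | rfl | rfl
    · simp [a7]
    · exact g2
    · exact g1
    · rw [a8, map_mul, map_mul, ← g1, ← g2]; group
  rw [b3, map_mul, ← g3, ← H.xr _ ((a1 _).1 ((a1 _).1 ((a1 _).1 b2).1).1).2, map_mul, map_mul, map_inv,
    ← xx _ b2, map_mul, map_inv, hγ, hx]
  group

end St

end Cfsg.Agent.Y12
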