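import Cfsg.Agent.Y12.One

/-! The group of order `512` generated by `S`, `γ` and its conjugates under `y`. -/

set_option autoImplicit false
set_option maxRecDepth 100000
set_option synthInstance.maxHeartbeats 400000
set_option synthInstance.maxSize 4000

namespace Cfsg.Agent.Y12

open Subgroup Cfsg.Agent.Comp Cfsg.Agent.X32 Cfsg.Agent.X32.TG Cfsg.Agent.LES Cfsg.Agent.He5

variable {G : Type*} [Group G] {T : Tab} [Fact T.OK]

/-- the bits of `m` vanish in the number of `k` -/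
def Z (m : ℕ) (k : TG T) : Prop := Nat.land k.v m = 0

omit [Fact T.OK] in
instance bdZ (m : ℕ) (k : TG T) {n : ℕ} [EV k n] : BD (Z m k) (Nat.beq (Nat.land n m) 0) :=
  ⟨by rw [← EV.h (a := k), beq_iff]; rfl⟩

theorem gr_dom {l : List (TG T × G)} (S : TG T → Prop) {ks : List (TG T)}
    (hk : l.map Prod.fst = ks)
    (c : ∀ k, S k → k = 1 ∨ ∃ g ∈ ks, S (g⁻¹ * k) ∧ (g⁻¹ * k).v < k.v ∧ True) :
    ∀ k, S k → ∃ g, (k, g) ∈ gr l :=
  rank_on S _ ks _ ⟨1, one_mem _⟩ c fun u hu k _ ⟨g, hg⟩ => by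
    obtain ⟨q, hq, rfl⟩ := List.mem_map.1 (hk ▸ hu)
    exact ⟨q.2 * g, by simpa [Prod.mul_def] using mul_mem (mem_gr hq) hg⟩

noncomputable abbrev κ (k : TG T) : D := lq tk k
noncomputable abbrev ι (k : D) : TG T := lq ti k
noncomputable abbrev Y (k : D) : D := lq tY k
noncomputable abbrev gR : List (TG T) := es [32, 16, 8, 4, 2, 1]

theorem fY : ∀ k, Mem mR k → Mem mR (Y k) ∧ Y (Y (Y k)) = k := BD.of (by decide +kernel)

abbrev F2 (T : Tab) [Fact T.OK] (s : ℕ) (p : D) (ty tx : ℕ) : Prop :=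
  ((κ (1 : TG T) = 1 ∧ ∀ k : TG T, Z 448 k → (∀ u ∈ gR, Z 448 (u * k) ∧ κ (u * k) = κ u * κ k) ∧
      (k = 1 ∨ ∃ g ∈ gR, Z 448 (g⁻¹ * k) ∧ (g⁻¹ * k).v < k.v ∧ κ k = κ g * κ (g⁻¹ * k))) ∧
    (∀ u ∈ (gR : List (TG T)), (Z 448 (e 64 * u * (e 64)⁻¹) ∧ κ (e 64 * u * (e 64)⁻¹) = A s (κ u)) ∧
      (Z 448 (e 128 * u * (e 128)⁻¹) ∧ κ (e 128 * u * (e 128)⁻¹) = Y (A s (Y (Y (κ u))))) ∧
      (Z 448 (e 256 * u * (e 256)⁻¹) ∧ κ (e 256 * u * (e 256)⁻¹) = dt * κ u * dt⁻¹) ∧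
      Mem mR (κ u) ∧ Mem mR (A s (Y (Y (κ u)))) ∧ Z 448 u ∧ Z 448 (lq ty u : TG T) ∧
        κ (lq ty u : TG T) = Y (κ u)) ∧
    (Z 448 (1 : TG T) ∧ ¬ Z 448 (e 64 : TG T) ∧ ∀ k : TG T, Z 448 k → ∀ u ∈ gR, Z 448 (u * k)) ∧
    (Z 384 (1 : TG T) ∧ ¬ Z 384 (e 128 : TG T) ∧
      ∀ k : TG T, Z 384 k → ∀ u ∈ e 64 :: gR, Z 384 (u * k)) ∧
    (Z 256 (1 : TG T) ∧ ¬ Z 256 (e 256 : TG T) ∧
      ∀ k : TG T, Z 256 k → ∀ u ∈ e 128 :: e 64 :: gR, Z 256 (u * k)) ∧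
    ∀ k : TG T, True → k = 1 ∨
      ∃ g ∈ e 256 :: e 128 :: e 64 :: gR, True ∧ (g⁻¹ * k).v < k.v ∧ True) ∧
  ((e 64 : TG T) ^ 2 = 1 ∧ (e 128 : TG T) ^ 2 = 1 ∧ (e 256 : TG T) ^ 2 = 1 ∧ dt ^ 2 = 1 ∧
    A s dt = dt ∧ A s dx = dx ∧ Mem mR p ∧ Mem mR (Y p) ∧ Mem mR (A s (Y p)) ∧
    Mem mR (Y (A s (Y p))) ∧ (Z 448 (e 128 * e 64 * (e 128)⁻¹ * (e 64)⁻¹ : TG T) ∧
      κ (e 128 * e 64 * (e 128)⁻¹ * (e 64)⁻¹ : TG T) = (Y (Y (A s (Y p))))⁻¹ * p⁻¹) ∧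
    (Z 448 (ι p : TG T) ∧ κ (ι p : TG T) = p) ∧ (e 256 * e 64 * (e 256)⁻¹ : TG T) = e 64 ∧
    (e 256 * e 128 * (e 256)⁻¹ : TG T) = e 128 * e 64 * ι p ∧ (lq ty (e 64 : TG T) : TG T) = e 128 ∧
    (lq ty (e 128 : TG T) : TG T) = e 128 * e 64 * ι p ∧ (lq tx (e 64 : TG T) : TG T) = e 64) ∧
  (∀ k : TG T, (Z 192 k → Z 448 k ∨ (Z 448 (k * (e 256)⁻¹) ∧ κ k = κ (k * (e 256)⁻¹) * dt)) ∧
    Z 192 (k * e 32 * k⁻¹) ∧ Z 192 (e 32 : TG T) ∧ (κ (k * e 32 * k⁻¹) = κ (e 32 : TG T) → Z 192 k) ∧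
    (Z 192 k → κ k = 1 → k = 1)) ∧
  (lq ty (1 : TG T) = (1 : TG T) ∧ ∀ k : TG T, Z 256 k → k = 1 ∨
    ∃ g ∈ e 128 :: e 64 :: gR, Z 256 (g⁻¹ * k) ∧ (g⁻¹ * k).v < k.v ∧
      (lq ty k : TG T) = lq ty g * lq ty (g⁻¹ * k)) ∧
  (∀ u ∈ (es [256, 32, 16, 4, 2, 1] : List (TG T)), Z 192 u ∧ Z 192 (lq tx u : TG T) ∧
    κ (lq tx u : TG T) = dx * κ u * dx⁻¹) ∧
  lq tx (1 : TG T) = (1 : TG T) ∧ ∀ k : TG T, Z 136 k → k = 1 ∨
    ∃ g ∈ e 64 :: es [256, 32, 16, 4, 2, 1], Z 136 (g⁻¹ * k) ∧ (g⁻¹ * k).v < k.v ∧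
      (lq tx k : TG T) = lq tx g * lq tx (g⁻¹ * k)

theorem f20 : F2 (TK bt0 tt0) 1 (e 0) ty0 tx0 := BD.of (by decide +kernel)
theorem f21 : F2 (TK bt1 tt1) 1 (e 289) ty1 tx1 := BD.of (by decide +kernel)
theorem f22 : F2 (TK bt2 tt2) 7 (e 52) ty2 tx2 := BD.of (by decide +kernel)
theorem f23 : F2 (TK bt3 tt3) 7 (e 35) ty3 tx3 := BD.of (by decide +kernel)

structure St (φ : D →* G) (y : G) (ψ : TG T →* G) (ty tx : ℕ) : Prop extends Base φ y where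
  inj1 : Function.Injective ψ
  sk : ∀ k, Z 192 k → ψ k = φ (κ k)
  yq : ∀ k, Z 256 k → y * ψ k * y⁻¹ = ψ (lq ty k)
  xr : ∀ k, Z 136 k → φ dx * ψ k * (φ dx)⁻¹ = ψ (lq tx k)

theorem Base.st [Finite G] {φ : D →* G} {y γ : G} (H : Base φ y) {s ty tx : ℕ} {p : D}
    (h : ∀ k, γ * φ k * γ⁻¹ = φ (A s k)) (h2 : γ * γ = 1) (h3 : γ * y * (γ * y * (γ * y)) = φ p)
    (c : F2 T s p ty tx) : ∃ ψ : TG T →* G, St φ y ψ ty tx := by
  obtain ⟨⟨⟨a0, a1⟩, a2, a3, a4, a5, a6⟩,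
    ⟨b1, b2, b3, b4, b5, b6, b7, b8, b9, b10, b11, b12, b13, b14, b15, b16, b17⟩, c1, c2, c3, c4⟩ := c
  let l0 : List (TG T × G) := gR.map fun u => (u, φ (κ u))
  have k0 : l0.map Prod.fst = gR := by simp [l0, Function.comp_def]
  have k1 : ((e 64, γ) :: l0).map Prod.fst = e 64 :: gR := congrArg (List.cons _) k0
  have k2 : ((e 128, y * γ * y⁻¹) :: (e 64, γ) :: l0).map Prod.fst = e 128 :: e 64 :: gR :=
    congrArg (List.cons _) k1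
  have m0 : ∀ k, Z 448 k → (k, φ (κ k)) ∈ gr l0 :=
    rank_on _ _ gR _ (by rw [a0, map_one]; exact one_mem _) (fun k hk => (a1 k hk).2)
      fun g hg k r ih => by
        simpa [r] using mul_mem (mem_gr (l := l0) (List.mem_map_of_mem hg)) ih
  have f0 : Fn (gr l0) := fun g hg => by
    have := gr_ind (P := fun q : TG T × G => Z 448 q.1 ∧ q.2 = φ (κ q.1)) ⟨a3.1, by simp [a0]⟩
      (fun q hq r hr => by
        obtain ⟨u, hu, rfl⟩ := List.mem_map.1 hq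
        exact ⟨((a1 _ hr.1).1 u hu).1, by simp [((a1 _ hr.1).1 u hu).2, hr.2]⟩) _ hg
    simpa [a0] using this.2
  have yi : y⁻¹ = y * y := inv_eq_of_mul_eq_one_left H.y3
  have yy : ∀ k, Mem mR k → y⁻¹ * φ k * y = φ (Y (Y k)) := fun k hk => by
    rw [← H.ya _ (fY k hk).1, ← H.ya k hk, ← mul_assoc, ← mul_assoc, ← yi]; simp [yi, mul_assoc]
    rw [← yi]; group
  have g3 : y⁻¹ * γ * y = y * γ * y⁻¹ * γ * φ p := by
    calc _ = y * (γ * γ) * y * γ * y := by rw [h2, yi, mul_one]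
      _ = y * γ * y⁻¹ * (γ * γ) * y * γ * y * γ * y := by nth_rewrite 2 [h2]; group
      _ = _ := by rw [← h3]; group
  have f1 := f0.cons (a := e 64) (g := γ) Nat.prime_two (norm_gr fun q hq => by
      obtain ⟨u, hu, rfl⟩ := List.mem_map.1 hq
      simpa [h, ← (a2 u hu).1.2] using m0 _ (a2 u hu).1.1)
    (by rw [Prod.pow_mk, b1, sq, h2]; exact one_mem _) _ k0 a3
  have f2 := f1.cons (a := e 128) (g := y * γ * y⁻¹) Nat.prime_two (norm_gr fun q hq => by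
      rcases List.mem_cons.1 hq with rfl | hq
      · have := mul_mem (gr_cons (q := (e 64, γ)) (m0 _ b11.1)) (mem_gr List.mem_cons_self)
        rw [b11.2, map_mul, map_inv, map_inv, ← yy _ b9, ← h, ← H.ya p b7] at this
        convert this using 1
        refine Prod.ext (by simp) ?_
        have e : y * γ * y⁻¹ * γ = y⁻¹ * γ * y * (φ p)⁻¹ := by rw [g3]; group
        calc y * γ * y⁻¹ * γ * (y * γ * y⁻¹)⁻¹ = y * γ * y⁻¹ * γ * (y * γ * y⁻¹ * γ) * γ := by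
              rw [mul_assoc (y * γ * y⁻¹ * γ) _ γ, mul_assoc _ γ γ, h2, mul_one, inv_self (conj_sq h2)]
          _ = _ := by rw [e]; nth_rewrite 2 [← inv_self h2]; simp only [Prod.snd_mul]; group
      · obtain ⟨u, hu, rfl⟩ := List.mem_map.1 hq
        obtain ⟨-, ⟨d1, d2⟩, -, d3, d4, -⟩ := a2 u hu
        have := gr_cons (q := (e 64, γ)) (m0 _ d1)
        rw [d2, ← H.ya _ d4, ← h, ← yy _ d3] at this
        convert this using 1
        exact Prod.ext rfl (by simp only [Prod.snd_mul, Prod.snd_inv]; group))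
    (by rw [Prod.pow_mk, b2, sq, conj_sq h2]; exact one_mem _) _ k1 a4
  have tγ : φ dt * γ * (φ dt)⁻¹ = γ := conj_of_comm (X32.comm_of_conj ((h dt).trans (by rw [b5]))).symm
  have m3 : ((e 128 * e 64 * ι p : TG T), y⁻¹ * γ * y) ∈
      gr ((e 128, y * γ * y⁻¹) :: (e 64, γ) :: l0) := by
    have := mul_mem (mul_mem (mem_gr (l := (e 128, y * γ * y⁻¹) :: (e 64, γ) :: l0)
      List.mem_cons_self) (gr_cons (mem_gr List.mem_cons_self))) (gr_cons (gr_cons (m0 _ b12.1)))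
    rwa [b12.2, Prod.mk_mul_mk, Prod.mk_mul_mk, ← g3] at this
  have f3 := f2.cons (a := e 256) (g := φ dt) Nat.prime_two (norm_gr fun q hq => by
      rcases List.mem_cons.1 hq with rfl | hq
      · convert m3 using 1
        refine Prod.ext b14 ?_
        calc _ = φ dt * y * (φ dt)⁻¹ * (φ dt * γ * (φ dt)⁻¹) * (φ dt * y * (φ dt)⁻¹)⁻¹ := by
              simp only [Prod.snd_mul, Prod.snd_inv]; group
          _ = _ := by rw [H.yt, tγ, inv_inv]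
      rcases List.mem_cons.1 hq with rfl | hq
      · simpa [b13, tγ] using gr_cons (q := (e 128, y * γ * y⁻¹))
          (mem_gr (l := (e 64, γ) :: l0) List.mem_cons_self)
      · obtain ⟨u, hu, rfl⟩ := List.mem_map.1 hq
        simpa [(a2 u hu).2.2.1.2] using gr_cons (gr_cons (m0 _ (a2 u hu).2.2.1.1)))
    (by rw [Prod.pow_mk, b3, ← map_pow, b4, map_one]; exact one_mem _) _
    k2 a5
  obtain ⟨ψ, hψ⟩ := f3.hom fun k => gr_dom _ (by exact congrArg (List.cons _) k2) a6 k trivial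
  have r0 : ∀ k, Z 448 k → ψ k = φ (κ k) := fun k hk => hψ _ _ (gr_cons (gr_cons (gr_cons (m0 k hk))))
  have r1 : ψ (e 64) = γ := hψ _ _ (mem_gr (by simp))
  have r2 : ψ (e 128) = y * γ * y⁻¹ := hψ _ _ (mem_gr (by simp))
  have r3 : ψ (e 256) = φ dt := hψ _ _ (mem_gr (by simp))
  have sk : ∀ k, Z 192 k → ψ k = φ (κ k) := fun k hk => ((c1 k).1 hk).elim (r0 k) fun d => by
    rw [d.2, map_mul, ← r0 _ d.1, ← r3, ← map_mul, inv_mul_cancel_right]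
  refine ⟨ψ, H, (injective_iff_map_eq_one ψ).2 fun k hk => ?_, sk,
    act_rank _ _ _ (fun g hg => ?_) c2, act_rank _ _ _ (fun g hg => ?_) c4⟩
  · obtain ⟨-, d1, d2, d3, d4⟩ := c1 k
    have := d3 (H.inj (by rw [← sk _ d1, ← sk _ d2]; simp [hk]))
    exact d4 this (H.inj (by rw [← sk _ this, hk, map_one]))
  · rcases List.mem_cons.1 hg with rfl | hg
    · rw [b16, hψ _ _ (gr_cons m3), r2, yi]; simp only [mul_assoc]; rw [← yi]; group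
    rcases List.mem_cons.1 hg with rfl | hg
    · rw [b15, r1, r2]
    · obtain ⟨-, -, -, d1, -, d2, d3, d4⟩ := a2 g hg
      rw [r0 _ d2, r0 _ d3, d4, H.ya _ d1]
  · rcases List.mem_cons.1 hg with rfl | hg
    · rw [b17, r1]
      exact conj_of_comm (X32.comm_of_conj ((h dx).trans (by rw [b6]))).symm
    · rw [sk _ (c3 g hg).1, sk _ (c3 g hg).2.1, (c3 g hg).2.2, map_mul, map_mul, map_inv]

end Cfsg.Agent.Y12
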